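import Cfsg.Agent.Lib.Spectrum.D4Two.Frames

/-!
In the eight dimensional module of the group of type 3D4 over the field with two elements the sum of
the powers of an element is nonzero only for orders 1, 2, 3, 4, 6 and 7.
-/

set_option autoImplicit false
set_option synthInstance.maxSize 4000
set_option maxRecDepth 20000

namespace CfsgLib.Spectrum.D4Two

open Matrix Cfsg Cfsg.Lie CfsgLib.Classical CfsgLib.Chev CfsgLib.Chev.Ortho

universe u v

variable {K : Type v} [Field K]

theorem mat_two [CharP K 2] (A : Matrix I8 I8 K) : A + A = 0 := by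
  ext i j
  exact CharTwo.add_self_eq_zero _

theorem mat_sub [CharP K 2] (A B : Matrix I8 I8 K) : A - B = A + B := by
  rw [sub_eq_add_neg, neg_eq_of_add_eq_zero_left (mat_two B)]

theorem normM_two (M : Matrix I8 I8 K) : normM M 2 = 1 + M := by
  simp [normM, Finset.sum_range_succ]

theorem normM_three (M : Matrix I8 I8 K) : normM M 3 = 1 + M + M ^ 2 := by
  simp [normM, Finset.sum_range_succ]

theorem normM_four (M : Matrix I8 I8 K) : normM M 4 = 1 + M + M ^ 2 + M ^ 3 := by
  simp [normM, Finset.sum_range_succ]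

theorem sq_one_add [CharP K 2] (M : Matrix I8 I8 K) : (1 + M) * (1 + M) = 1 + M ^ 2 := by
  calc (1 + M) * (1 + M) = 1 + M ^ 2 + (M + M) := by noncomm_ring
    _ = _ := by rw [mat_two, add_zero]

theorem cube_one_add [CharP K 2] (M : Matrix I8 I8 K) :
    (1 + M) * ((1 + M) * (1 + M)) = normM M 4 := by
  rw [sq_one_add, normM_four]
  noncomm_ring

/-- No images of many basis vectors in the span of few vectors. -/
theorem not_cover {m k : ℕ} (a : Fin m → I8 → K) (Z X : Matrix I8 I8 K)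
    (hZ : ∀ v, ∃ c : Fin m → K, Z *ᵥ v = ∑ i, c i • a i) (I J : Fin k → I8)
    (hI : Function.Injective I)
    (h : ∀ l, X *ᵥ (Z *ᵥ Pi.single (J l) 1) = Pi.single (I l) (1 : K)) : k ≤ m := by
  set W := Submodule.span K (Set.range fun i => X *ᵥ a i)
  have hmem : ∀ l, Pi.single (I l) (1 : K) ∈ W := by
    intro l
    obtain ⟨c, hc⟩ := hZ (Pi.single (J l) 1)
    rw [← h l, hc, mulVec_sum]
    refine Submodule.sum_mem _ fun i _ => ?_
    rw [mulVec_smul]
    exact Submodule.smul_mem _ _ (Submodule.subset_span ⟨i, rfl⟩)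
  have hind : LinearIndependent K fun l => Pi.single (M := fun _ : I8 => K) (I l) (1 : K) :=
    (Pi.linearIndependent_single_one I8 K).comp I hI
  have h1 := card_le_of_indep hind hmem
  have h2 : Module.finrank K W ≤ Fintype.card (Fin m) := finrank_range_le_card (fun i => X *ᵥ a i)
  rw [Fintype.card_fin] at h2
  omega

variable [Fintype K] (D : Model K)

theorem Gen.cube_root {α : K} (h : Gen α) (c : K) (hc : c ^ 3 = 1) : c = 1 := by
  classical
  have hc0 : c ≠ 0 := fun e => by simp [e] at hc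
  have h7 : c ^ 7 = 1 := by
    have h8 : Fintype.card K = 8 := by rw [← Nat.card_eq_fintype_card]; exact h.card
    simpa [h8] using FiniteField.pow_card_sub_one_eq_one c hc0
  calc c = c * (c ^ 3) ^ 2 := by rw [hc, one_pow, mul_one]
    _ = c ^ 7 := by ring
    _ = 1 := h7

theorem Gen.no_root {α : K} (h : Gen α) (a b : K) (e : a ^ 2 - a * b + b ^ 2 = 0) : a = 0 ∧ b = 0 := by
  have := h.char
  by_cases hb : b = 0
  · subst hb
    exact ⟨by simpa using e, rfl⟩
  exfalso
  set x := a / b with hx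
  have e' : x ^ 2 - x + 1 = 0 := by
    rw [hx]
    field_simp
    linear_combination e
  rw [CharTwo.sub_eq_add] at e'
  have h3 : x ^ 3 = 1 := by
    linear_combination (x - 1) * e'
  have := h.cube_root x h3
  rw [this] at e'
  simp [CharTwo.add_self_eq_zero] at e'

theorem Model.two_ne (D : Model K) : (3 : K) ≠ 0 := by
  intro h
  exact one_ne_zero (α := K) (by linear_combination h - D.gen.two)

theorem Model.case_nine {g : ↥(G3 K)} (h : orderOf g = 9) : normM (D.mx g) 9 = 0 := by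
  obtain ⟨y, X, hX, hy⟩ := D.conj_three (b := 2) (g := g) (by rw [show 3 ^ 2 = orderOf g by rw [h]; norm_num, pow_orderOf_eq_one])
  rw [← D.normM_conj_iff y]
  have hc := List.all_eq_true.1 check9 X hX
  simp only [Bool.or_eq_true, beq_iff_eq] at hc
  rcases hc with hc | hc
  · have e := (D.eq_one_iff (D.has_pow hy 3)).2 hc
    rw [conj_pow, conj_eq_one_iff] at e
    exact absurd e (pow_ne_one_of_lt_orderOf (by norm_num) (by rw [h]; norm_num))
  · exact D.normM_zero hy hc

theorem Model.case_thirteen {g : ↥(G3 K)} (h : orderOf g = 13) : normM (D.mx g) 13 = 0 := by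
  obtain ⟨y, X, hX, hy⟩ := D.conj_thirteen (b := 1) (g := g) (by rw [pow_one, ← h, pow_orderOf_eq_one])
  rw [← D.normM_conj_iff y]
  have hc := List.all_eq_true.1 check13 X hX
  simp only [Bool.or_eq_true, beq_iff_eq] at hc
  rcases hc with hc | hc
  · have e := (D.eq_one_iff hy).2 hc
    rw [conj_eq_one_iff] at e
    rw [e, orderOf_one] at h
    norm_num at h
  · exact D.normM_zero hy hc

theorem Model.case_fortynine (D : Model K) {g : ↥(G3 K)} (h : orderOf g = 49) : False := by
  obtain ⟨y, X, hX, hy⟩ := D.conj_seven (b := 2) (g := g)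
    (by rw [show 7 ^ 2 = orderOf g by rw [h]; norm_num, pow_orderOf_eq_one])
  have e := (D.eq_one_iff (D.has_pow hy 7)).2 (by simpa using List.all_eq_true.1 check49 X hX)
  rw [conj_pow, conj_eq_one_iff] at e
  exact pow_ne_one_of_lt_orderOf (by norm_num) (by rw [h]; norm_num) e

theorem Model.case_eight {g : ↥(G3 K)} (h : orderOf g = 8) : normM (D.mx g) 8 = 0 := by
  have := D.gen.char
  have hU : Nat.card ↥(((chevD4.posUnipotent K) ⊓ G3 K).subgroupOf (G3 K)) = 2 ^ 12 := by
    rw [Nat.card_congr (Subgroup.subgroupOfEquivOfLe inf_le_right).toEquiv, D.C.card_posU]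
  obtain ⟨y, hy⟩ := conj_into Nat.prime_two _ hU (by rw [D.card]; norm_num) (g := g) (b := 3)
    (by rw [show 2 ^ 3 = orderOf g by rw [h]; norm_num, pow_orderOf_eq_one])
  rw [← D.normM_conj_iff y]
  have h1 := (Subgroup.mem_subgroupOf.1 hy).1
  rw [DataD4.facts.posUnipotent_eq, show chevD4.nroots / 2 = 12 by decide +kernel] at h1
  have hr : (D.mx (y * g * y⁻¹) - 1) ^ 7 = 0 := (D.raise _ h1).pow_seven
  generalize D.mx (y * g * y⁻¹) = U at hr ⊢
  rw [mat_sub, add_comm] at hr
  rw [show (8 : ℕ) = 4 * 2 from rfl, normM_mul, normM_two, ← cube_one_add]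
  calc (1 + U ^ 4) * ((1 + U) * ((1 + U) * (1 + U)))
      = ((1 + U) * (1 + U)) * ((1 + U) * (1 + U)) * ((1 + U) * ((1 + U) * (1 + U))) := by
        rw [sq_one_add, sq_one_add, ← pow_mul]
    _ = (1 + U) ^ 7 := by simp only [pow_succ, pow_zero, one_mul, mul_assoc]
    _ = 0 := hr

/-- The common part of orders fourteen and twenty-one. -/
theorem Model.seven_core {g : ↥(G3 K)} {m : ℕ} (h : orderOf g = 7 * m) (hm : 1 < m)
    (hN : normM (D.mx g) (7 * m) ≠ 0) (hroot : ∀ c : K, c ^ m = 1 → c = 1) :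
    ∃ y : ↥(G3 K), normM (D.mx (y * g * y⁻¹)) (7 * m) ≠ 0 ∧ orderOf (y * g * y⁻¹) = 7 * m ∧
      ∃ F : Frame (normM (D.mx ((y * g * y⁻¹) ^ m)) 7) 2,
        ∀ v, v ∈ kerW (normM (D.mx ((y * g * y⁻¹) ^ m)) 7) → D.mx ((y * g * y⁻¹) ^ 7) *ᵥ v = v := by
  have ho : orderOf (g ^ m) = 7 := by
    rw [orderOf_pow_of_dvd (by omega) ⟨7, by rw [h, mul_comm]⟩, h, Nat.mul_div_cancel _ (by omega)]
  obtain ⟨y, X, hX, hy⟩ := D.conj_seven (b := 1) (g := g ^ m) (by rw [pow_one, ← ho, pow_orderOf_eq_one])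
  rw [← conj_pow] at hy
  have ho' : orderOf (y * g * y⁻¹) = 7 * m := by
    rw [← h]; exact MulEquiv.orderOf_eq (MulAut.conj y) g
  have hN' : normM (D.mx (y * g * y⁻¹)) (7 * m) ≠ 0 := fun e => hN ((D.normM_conj_iff y g _).1 e)
  generalize hg' : y * g * y⁻¹ = g' at hy ho' hN' ⊢
  have h7 : normM (D.mx (g' ^ m)) 7 ≠ 0 := by
    intro e
    refine hN' ?_
    rw [mul_comm, normM_mul, ← D.mx_pow, e, zero_mul]
  have h1 : g' ^ m ≠ 1 := pow_ne_one_of_lt_orderOf (by omega) (by rw [ho']; omega)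
  obtain ⟨F, hF⟩ := D.seven_frame hX hy h7 h1
  refine ⟨y, by rwa [hg'], by rwa [hg'], ?_⟩
  rw [hg']
  refine ⟨F, hF _ ?_ m ?_ hroot⟩
  · rw [D.mx_pow, D.mx_pow]
    exact (Commute.refl _).pow_pow _ _
  · rw [← D.mx_pow, ← pow_mul, ← ho', pow_orderOf_eq_one, D.mx_one]

theorem Model.case_twentyone {g : ↥(G3 K)} (h : orderOf g = 21) : normM (D.mx g) 21 = 0 := by
  by_contra hne
  obtain ⟨y, hN, ho, F, hfix⟩ := D.seven_core (m := 3) h (by norm_num) hne D.gen.cube_root
  generalize y * g * y⁻¹ = g' at hN ho F hfix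
  have hg21 : g' ^ 21 = 1 := by rw [show 21 = orderOf g' by rw [ho], pow_orderOf_eq_one]
  set M := D.mx g' with hM
  set S := D.mx (g' ^ 7) with hS
  set E := normM (D.mx (g' ^ 3)) 7 with hE
  have hT : D.mx (g' ^ 3) * E = E := mul_normM_self (by rw [← D.mx_pow, ← pow_mul, hg21, D.mx_one])
  have hSM : S = M ^ 7 := D.mx_pow g' 7
  have hTM : D.mx (g' ^ 3) = M ^ 3 := D.mx_pow g' 3
  have cME : Commute M E := by
    rw [hE, hTM]
    exact Commute.sum_right _ _ _ fun i _ => ((Commute.refl M).pow_right 3).pow_right i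
  have cSE : Commute S E := hSM ▸ cME.pow_left 7
  have hN3 : normM M 3 * E = normM S 3 * E := by
    have e1 : M ^ 7 * E = M * E := by
      rw [pow_succ' M 6, mul_assoc, show M ^ 6 = (M ^ 3) ^ 2 by rw [← pow_mul], ← hTM, absorb hT]
    have e2 : M ^ 14 * E = M ^ 2 * E := by
      rw [show 14 = 2 + 3 * 4 from rfl, pow_add, mul_assoc, pow_mul, ← hTM, absorb hT]
    rw [normM_three, normM_three, hSM, ← pow_mul, show 7 * 2 = 14 from rfl, add_mul, add_mul, add_mul,
      add_mul, e1, e2]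
  have key : normM (D.mx g') (7 * 3) = normM S 3 * E := by
    rw [← hN3, show 7 * 3 = 3 * 7 from rfl, normM_mul, ← hTM]
    exact (Commute.sum_right _ _ _ fun i _ => cME.symm.pow_right i).eq
  have hS3 : S ^ 3 = 1 := by rw [hS, ← D.mx_pow, ← pow_mul, hg21, D.mx_one]
  rcases order_three_plane (W := fixW E) (s := S.mulVecLin) (fun v hv => fixW_inv cSE hv)
      (fun v _ => by
        simp only [mulVecLin_apply, mulVec_mulVec, ← mul_assoc]
        rw [show S * S * S = S ^ 3 by rw [pow_succ, pow_two], hS3, one_mulVec])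
      D.gen.cube_root D.two_ne (F.finrank_fix.trans supp_cards.1.le) with hid | hquad
  · have hS1 : S = 1 := by
      refine Matrix.ext_of_mulVec_single fun i => ?_
      obtain ⟨h1, h2⟩ := F.split (Pi.single i 1)
      have a1 := hid _ h1
      have a2 := hfix _ h2
      rw [mulVecLin_apply] at a1
      rw [mulVec_sub, a1] at a2
      rw [one_mulVec]
      simpa using a2
    have : g' ^ 7 = 1 := D.mx_inj (hS1.trans D.mx_one.symm)
    exact pow_ne_one_of_lt_orderOf (by norm_num) (by rw [ho]; norm_num) this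
  · refine hN ?_
    rw [key]
    refine Matrix.ext_of_mulVec_single fun i => ?_
    obtain ⟨h1, -⟩ := F.split (Pi.single i 1)
    have := hquad _ h1
    rw [zero_mulVec, ← mulVec_mulVec, normM_three, add_mulVec, add_mulVec, one_mulVec, pow_two,
      ← mulVec_mulVec]
    simp only [mulVecLin_apply] at this
    linear_combination (norm := module) this

/-- An element of order two is conjugate to one of the representatives. -/
theorem Model.involution (z : ↥(G3 K)) (h2 : z * z = 1) (h1 : z ≠ 1) :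
    ∃ h : ↥(G3 K),
      (Enc D.α (D.mx (h * z * h⁻¹)) longC ∧
        ∀ x, QuadraticMap.polar (qPlus 4 K) (D.mx (h * z * h⁻¹) *ᵥ x) x = 0) ∨
      Enc D.α (D.mx (h * z * h⁻¹)) shortC := by
  have := D.gen.char
  rcases D4Invol.involution_classes D.C z.2 (congrArg Subtype.val h2) (fun e => h1 (Subtype.ext e)) with
    ⟨h, hh, e⟩ | ⟨h, hh, e⟩
  · refine ⟨⟨h, hh⟩, Or.inl (D.long _ ?_)⟩
    rw [Subgroup.coe_mul, Subgroup.coe_mul, Subgroup.coe_inv]
    exact e
  · refine ⟨⟨h, hh⟩, Or.inr (D.short _ ?_)⟩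
    rw [Subgroup.coe_mul, Subgroup.coe_mul, Subgroup.coe_inv]
    exact e

theorem Model.unit_images {C X : List ℕ} (hX : ltB X = true) (Z : Matrix I8 I8 K) (hZ : Enc D.α Z C)
    (i j : I8) (h : ap (matC X) (ap C (2 ^ (3 * idx j))) = 2 ^ (3 * idx i)) :
    mat D.α X *ᵥ (Z *ᵥ Pi.single j 1) = Pi.single i (1 : K) := by
  have e : ∀ c : I8, dec D.α (2 ^ (3 * idx c)) = Pi.single c (1 : K) := fun c => by
    have := idx_lt c
    rw [D.gen.dec_two_pow (j := 3 * idx c) (by omega) (c := c) (by omega), Nat.mul_mod_right, pow_zero,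
      one_smul]
    rfl
  have := idx_lt j
  have hlt : 2 ^ (3 * idx j) < 2 ^ 24 := Nat.pow_lt_pow_right (by norm_num) (by omega)
  rw [← e i, ← e j, D.gen.enc_apply hZ hlt, D.gen.enc_apply (D.gen.enc_mat hX)
    (ap_lt _ _ fun k hk => (hZ.2 k (hZ.1 ▸ hk)).1), h]

/-- The representation preserves the polar form. -/
theorem Model.polar_iso (g : ↥(G3 K)) (x y : I8 → K) :
    QuadraticMap.polar (qPlus 4 K) (D.mx g *ᵥ x) (D.mx g *ᵥ y) =
      QuadraticMap.polar (qPlus 4 K) x y := by
  have h : ∀ w : I8 → K, qPlus 4 K (D.mx g *ᵥ w) = qPlus 4 K w := fun w => D.iso g w w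
  simp only [QuadraticMap.polar, ← mulVec_add, h]

/-- An involution minus one has rank at least two, three for the short ones. -/
theorem Model.rank_bound (z : ↥(G3 K)) (h2 : z * z = 1) (h1 : z ≠ 1) {m : ℕ} (hm : m ≤ 2)
    (a : Fin m → I8 → K) (hz : ∀ v, ∃ c : Fin m → K, (D.mx z + 1) *ᵥ v = ∑ i, c i • a i) :
    2 ≤ m ∧ ∀ x, QuadraticMap.polar (qPlus 4 K) (D.mx z *ᵥ x) x = 0 := by
  have := D.gen.char
  obtain ⟨h, hh⟩ := D.involution z h2 h1
  have hY : ∀ x, D.mx h⁻¹ *ᵥ (D.mx h *ᵥ x) = x := fun x => by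
    rw [mulVec_mulVec, ← D.mx_mul, inv_mul_cancel, D.mx_one, one_mulVec]
  have hcov : ∀ v, ∃ c : Fin m → K, (D.mx (h * z * h⁻¹) + 1) *ᵥ v = ∑ i, c i • (D.mx h *ᵥ a i) := by
    intro v
    obtain ⟨c, hc⟩ := hz (D.mx h⁻¹ *ᵥ v)
    refine ⟨c, ?_⟩
    have := congrArg (fun w => D.mx h *ᵥ w) hc
    simp only [mulVec_sum, mulVec_smul] at this
    have e : D.mx (h * z * h⁻¹) + 1 = D.mx h * (D.mx z + 1) * D.mx h⁻¹ := by
      rw [mul_add, add_mul, mul_one, ← D.mx_mul, ← D.mx_mul, ← D.mx_mul, mul_inv_cancel, D.mx_one]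
    rw [← this, mulVec_mulVec, mulVec_mulVec, e]
  rcases hh with ⟨hL, hB⟩ | hS
  · obtain ⟨hl, hl'⟩ := long_ok
    refine ⟨?_, fun x => ?_⟩
    · have hZ := D.gen.enc_add hL enc_one
      refine not_cover _ _ (mat D.α longX) hcov ![.inl 0, .inl 1] ![.inr 0, .inr 1] (by decide) fun l => ?_
      refine D.unit_images hl _ hZ _ _ ?_
      fin_cases l
      · simpa [idx] using List.all_eq_true.1 hl' (0, 4) (by decide)
      · simpa [idx] using List.all_eq_true.1 hl' (1, 5) (by decide)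
    · have e := hB (D.mx h *ᵥ x)
      rw [D.mx_mul, ← mulVec_mulVec, hY, D.mx_mul, ← mulVec_mulVec] at e
      rwa [D.polar_iso h] at e
  · obtain ⟨hl, hl'⟩ := short_ok
    exfalso
    have hZ := D.gen.enc_add hS enc_one
    have := not_cover _ _ (mat D.α shortX) hcov ![.inl 0, .inl 1, .inl 2] ![.inl 3, .inr 0, .inr 1]
      (by decide) fun l => by
        refine D.unit_images hl _ hZ _ _ ?_
        fin_cases l
        · simpa [idx] using List.all_eq_true.1 hl' (0, 3) (by decide)
        · simpa [idx] using List.all_eq_true.1 hl' (1, 4) (by decide)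
        · simpa [idx] using List.all_eq_true.1 hl' (2, 5) (by decide)
    omega

theorem Model.case_fourteen {g : ↥(G3 K)} (h : orderOf g = 14) : normM (D.mx g) 14 = 0 := by
  have := D.gen.char
  by_contra hne
  obtain ⟨y, -, ho, F, hfix⟩ := D.seven_core (m := 2) h (by norm_num) hne (fun c hc => by
    have e : (c + 1) ^ 2 = 0 := by rw [CharTwo.add_sq, one_pow, hc, CharTwo.add_self_eq_zero]
    rw [← CharTwo.sub_eq_add] at e
    exact sub_eq_zero.1 (pow_eq_zero_iff two_ne_zero |>.1 e))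
  generalize y * g * y⁻¹ = g' at ho F hfix
  have hg14 : g' ^ 14 = 1 := by rw [show 14 = orderOf g' by rw [ho], pow_orderOf_eq_one]
  set z := g' ^ 7 with hz
  set E := normM (D.mx (g' ^ 2)) 7 with hE
  have cE : Commute (D.mx z) E := by
    rw [hE, hz, D.mx_pow, D.mx_pow]
    exact Commute.sum_right _ _ _ fun i _ => ((Commute.refl (D.mx g')).pow_pow 7 2).pow_right i
  have hz2 : z * z = 1 := by rw [hz, ← pow_add, hg14]
  have hz1 : z ≠ 1 := pow_ne_one_of_lt_orderOf (by norm_num) (by rw [ho]; norm_num)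
  obtain ⟨w0, hw⟩ := involution_plane (W := fixW E) (s := (D.mx z).mulVecLin)
    (fun v hv => fixW_inv cE hv)
    (fun v _ => by
      rw [mulVecLin_apply, mulVecLin_apply, mulVec_mulVec, ← D.mx_mul, hz2, D.mx_one, one_mulVec])
    (F.finrank_fix.trans supp_cards.1.le)
  have := (D.rank_bound z hz2 hz1 (m := 1) (by norm_num) (fun _ => w0) fun v => by
    obtain ⟨h1, h2⟩ := F.split v
    obtain ⟨c, hc⟩ := hw _ h1
    refine ⟨fun _ => c, ?_⟩
    have a2 := hfix _ h2
    rw [mulVec_sub] at a2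
    simp only [mulVecLin_apply] at hc
    rw [add_mulVec, one_mulVec, Fin.sum_univ_one, ← hc]
    have two : ∀ w : I8 → K, w + w = 0 := fun w => funext fun i => CharTwo.add_self_eq_zero _
    linear_combination (norm := module) a2 + two v - two (E *ᵥ v)).1
  omega

end CfsgLib.Spectrum.D4Two
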