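import Cfsg.Agent.Lib.Spectrum.D4Two.Rep
import Cfsg.Agent.Lib.Spectrum.D4Two.Data

/-!
Codes of general matrices and the checked certificates of the group of type 3D4 over the field with
two elements.
-/

set_option autoImplicit false
set_option maxRecDepth 100000
set_option maxHeartbeats 1000000
set_option Elab.async false

namespace CfsgLib.Spectrum.D4Two

open Matrix CfsgLib.Classical CfsgLib.Chev.Ortho

universe v

variable {K : Type v} [Field K] {α : K}

/-- The scalar multiplication by the generator, in code. -/
def alC : List ℕ := (List.range 24).map fun j => pw (j % 3 + 1) <<< (3 * (j / 3))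

/-- A multiple by a power of the generator, in code. -/
def colC (n : ℕ) : ℕ → ℕ
  | 0 => n
  | k + 1 => ap alC (colC n k)

/-- The code of the matrix with the given columns. -/
def matC (cols : List ℕ) : List ℕ := (List.range 24).map fun j => colC (cols.getD (j / 3) 0) (j % 3)

/-- The matrix with the given columns. -/
def mat (α : K) (cols : List ℕ) : Matrix I8 I8 K := fun i c => dec α (cols.getD (idx c) 0) i

/-- Bounded columns. -/
def ltB (cols : List ℕ) : Bool := (List.range 8).all fun c => decide (cols.getD c 0 < 2 ^ 24)

theorem alC_lt : alC.all (· < 2 ^ 24) = true := by decide +kernel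

theorem Gen.enc_al (h : Gen α) : Enc α (α • (1 : Matrix I8 I8 K)) alC := by
  refine ⟨by simp [alC], fun j hj => ?_⟩
  have hg : alC.getD j 0 = pw (j % 3 + 1) <<< (3 * (j / 3)) := by
    rw [alC, List.getD_eq_getElem _ _ (by simpa using hj), List.getElem_map, List.getElem_range]
  refine ⟨?_, ?_⟩
  · have := List.all_eq_true.1 alC_lt (alC.getD j 0) (by
      rw [List.getD_eq_getElem _ _ (by simp [alC, hj])]
      exact List.getElem_mem _)
    simpa using this
  obtain ⟨c, hc⟩ := idx_surj ⟨j / 3, by omega⟩
  simp only at hc
  rw [hg, smul_mulVec, one_mulVec, ← hc, h.dec_shift (pw_lt _), h.sc_pw, h.dec_two_pow hj hc, smul_smul, pow_succ']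

theorem Gen.colC_spec (h : Gen α) {n : ℕ} (hn : n < 2 ^ 24) :
    ∀ k, colC n k < 2 ^ 24 ∧ dec α (colC n k) = α ^ k • dec α n
  | 0 => ⟨hn, by simp [colC]⟩
  | k + 1 => by
    obtain ⟨h1, h2⟩ := h.colC_spec hn k
    refine ⟨ap_lt _ _ fun j hj => (h.enc_al.2 j (by simpa [alC] using hj)).1, ?_⟩
    rw [colC, ← h.enc_apply h.enc_al h1, h2, smul_mulVec, one_mulVec, smul_smul, pow_succ']

theorem Gen.enc_mat (h : Gen α) {cols : List ℕ} (hc : ltB cols = true) :
    Enc α (mat α cols) (matC cols) := by
  refine ⟨by simp [matC], fun j hj => ?_⟩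
  have hlt : cols.getD (j / 3) 0 < 2 ^ 24 := by
    simpa using List.all_eq_true.1 hc (j / 3) (List.mem_range.2 (by omega))
  have hg : (matC cols).getD j 0 = colC (cols.getD (j / 3) 0) (j % 3) := by
    rw [matC, List.getD_eq_getElem _ _ (by simpa using hj), List.getElem_map, List.getElem_range]
  obtain ⟨h1, h2⟩ := h.colC_spec hlt (j % 3)
  obtain ⟨c, hcj⟩ := idx_surj ⟨j / 3, by omega⟩
  simp only at hcj
  rw [hg]
  refine ⟨h1, ?_⟩
  rw [h2, h.dec_two_pow hj hcj, mulVec_smul, bv, mulVec_single_one]
  congr 1
  funext i
  simp [mat, hcj]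

/-- The columns of a diagonal matrix. -/
def diagCols (d : List ℕ) : List ℕ := (List.range 8).map fun c => d.getD c 0 <<< (3 * c)

theorem Gen.mat_diag (h : Gen α) {d : List ℕ} (hd : ∀ c < 8, d.getD c 0 < 8) :
    mat α (diagCols d) = Matrix.diagonal fun i => sc α (d.getD (idx i) 0) := by
  ext i c
  have e : (diagCols d).getD (idx c) 0 = d.getD (idx c) 0 <<< (3 * idx c) := by
    rw [diagCols, List.getD_eq_getElem _ _ (by simpa using idx_lt c), List.getElem_map, List.getElem_range]
  rw [mat, e, h.dec_shift (hd _ (idx_lt c))]
  by_cases hi : i = c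
  · subst hi; simp [bv]
  · simp [bv, hi]

/-- A list with ones in the first places. -/
def ind (k : ℕ) : List ℕ := (List.range 8).map fun c => if c < k then 1 else 0

theorem ind_getD (k : ℕ) {c : ℕ} (hc : c < 8) : (ind k).getD c 0 = if c < k then 1 else 0 := by
  rw [ind, List.getD_eq_getElem _ _ (by simpa using hc), List.getElem_map, List.getElem_range]

/-- The eigenvalues of an element of order seven with fixed vectors. -/
def eig7 : List ℕ := [1, 1, 2, 3, 4, 5, 6, 7]

/-- The code of a generator. -/
def genC : ℕ → List ℕ
  | 0 => rootC 14 0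
  | 1 => rootC 9 0
  | 2 => mulC (rootC 18 0) (mulC (rootC 13 0) (rootC 12 0))
  | 3 => mulC (rootC 18 1) (mulC (rootC 13 2) (rootC 12 4))
  | 4 => mulC (rootC 18 2) (mulC (rootC 13 4) (rootC 12 1))
  | 5 => mulC (rootC 5 0) (mulC (rootC 10 0) (rootC 11 0))
  | 6 => mulC (rootC 5 1) (mulC (rootC 10 2) (rootC 11 4))
  | _ => mulC (rootC 5 2) (mulC (rootC 10 4) (rootC 11 1))

/-- The code of a word. -/
def wordC (w : List ℕ) : List ℕ := prodC (w.map genC)

/-- The test for a subgroup listed with its construction. -/
def listB (A B : List ℕ) (L : List (List ℕ)) (pr : List (Bool × ℕ)) : Bool :=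
  decide (L.Nodup) && (L.getD 0 [] == oneC) && decide (pr.length + 1 = L.length) &&
    (L.all fun X => L.contains (mulC A X) && L.contains (mulC B X)) &&
      (List.range pr.length).all fun i => let p := pr.getD i (false, 0)
        decide (p.2 ≤ i) && (mulC (if p.1 then B else A) (L.getD p.2 []) == L.getD (i + 1) [])

theorem list3_ok : listB (wordC wA3) (wordC wB3) list3 prov3 = true := by decide +kernel

theorem list7_ok : listB (wordC wA7) (wordC wB7) list7 prov7 = true := by decide +kernel

theorem list13_ok : listB (wordC wX13) (wordC wX13) list13 prov13 = true := by decide +kernel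

theorem list_lengths : list3.length = 81 ∧ list7.length = 49 ∧ list13.length = 13 := by decide +kernel

theorem check9 : (list3.all fun X => powC X 3 == oneC || normC X 9 == zeroC) = true := by
  decide +kernel

theorem check49 : (list7.all fun X => powC X 7 == oneC) = true := by decide +kernel

theorem check13 : (list13.all fun X => X == oneC || normC X 13 == zeroC) = true := by decide +kernel

/-- The test of a certificate for an element of order three. -/
def cert3B (X : List ℕ) : Option (ℕ × List ℕ × List ℕ) → Bool
  | none => powC X 3 != oneC || X == oneC || normC X 3 == zeroC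
  | some (k, P, Q) => (k == 2 || k == 4) && ltB P && ltB Q && (mulC (matC Q) (matC P) == oneC) &&
      (mulC (matC P) (matC Q) == oneC) &&
      (mulC (matC Q) (mulC (normC X 3) (matC P)) == matC (diagCols (ind k)))

theorem cert3_ok : cert3.length = list3.length ∧ ((List.zip list3 cert3).all fun p => cert3B p.1 p.2) = true := by
  decide +kernel

/-- The test of a certificate for an element of order seven. -/
def cert7B (X : List ℕ) : Option (List ℕ × List ℕ) → Bool
  | none => X == oneC || normC X 7 == zeroC
  | some (P, Q) => ltB P && ltB Q && (mulC (matC Q) (matC P) == oneC) &&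
      (mulC (matC P) (matC Q) == oneC) &&
      (mulC (matC Q) (mulC X (matC P)) == matC (diagCols eig7)) &&
      (mulC (matC Q) (mulC (normC X 7) (matC P)) == matC (diagCols (ind 2)))

theorem cert7_ok : cert7.length = list7.length ∧ ((List.zip list7 cert7).all fun p => cert7B p.1 p.2) = true := by
  decide +kernel

/-- The code of the long involution. -/
def longC : List ℕ := rootC 23 0

/-- The code of the short involution. -/
def shortC : List ℕ := mulC (rootC 20 0) (mulC (rootC 21 0) (rootC 17 0))

/-- Coordinates in which the image of the long involution minus one contains two unit vectors. -/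
def longX : List ℕ := [8, 1, 64, 512, 4096, 32768, 262144, 2097152]

/-- Coordinates in which the image of the short involution minus one contains three unit vectors. -/
def shortX : List ℕ := [1, 512, 64, 4096, 32768, 262144, 2097152, 4105]

theorem long_ok : ltB longX = true ∧
    (List.zip [0, 1] [4, 5]).all (fun p =>
      ap (matC longX) (ap (addC longC oneC) (2 ^ (3 * p.2))) == 2 ^ (3 * p.1)) = true := by
  decide +kernel

theorem short_ok : ltB shortX = true ∧
    (List.zip [0, 1, 2] [3, 4, 5]).all (fun p =>
      ap (matC shortX) (ap (addC shortC oneC) (2 ^ (3 * p.2))) == 2 ^ (3 * p.1)) = true := by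
  decide +kernel

/-- The test of an element of given order. -/
def ordB (X : List ℕ) (n : ℕ) : Bool :=
  (powC X n == oneC) && (List.range n).all fun m => m == 0 || powC X m != oneC

theorem witness_ok : ([([0], 2), ([0, 2, 0, 2], 4), ([0, 1, 2], 6), ([0, 2], 8), ([0, 2, 5], 12),
    ([0, 2, 7, 3], 14)].all fun p : List ℕ × ℕ => ordB (wordC p.1) p.2) = true := by
  decide +kernel

theorem gen_zero_ne : (wordC [0] != oneC) = true := by decide +kernel

end CfsgLib.Spectrum.D4Two
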