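import Mathlib

/-!
Matrices of size eight over the field with eight elements, coded by their columns over the prime
field as lists of numbers.
-/

set_option autoImplicit false

namespace CfsgLib.Spectrum.D4Two

open Matrix

universe v

/-- The index type of the natural module. -/
abbrev I8 : Type := Fin 4 ⊕ Fin 4

/-- Apply a coded matrix to a coded vector. -/
def ap : List ℕ → ℕ → ℕ
  | [], _ => 0
  | a :: A, n => (if n % 2 = 1 then a else 0) ^^^ ap A (n / 2)

/-- The product of coded matrices. -/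
def mulC (A B : List ℕ) : List ℕ := B.map (ap A)

/-- The identity. -/
def oneC : List ℕ := (List.range 24).map (2 ^ ·)

/-- The zero matrix. -/
def zeroC : List ℕ := List.replicate 24 0

/-- The sum of coded matrices. -/
def addC (A B : List ℕ) : List ℕ := List.zipWith (· ^^^ ·) A B

/-- The product of a list. -/
def prodC : List (List ℕ) → List ℕ
  | [] => oneC
  | A :: L => mulC A (prodC L)

/-- A power. -/
def powC (A : List ℕ) : ℕ → List ℕ
  | 0 => oneC
  | n + 1 => mulC A (powC A n)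

/-- The sum of the first powers. -/
def normC (A : List ℕ) : ℕ → List ℕ
  | 0 => zeroC
  | n + 1 => addC oneC (mulC A (normC A n))

/-- The coordinate number. -/
def idx : I8 → ℕ
  | .inl i => i.val
  | .inr i => 4 + i.val

theorem idx_lt : ∀ i : I8, idx i < 8 := by decide

theorem idx_inj : ∀ i j : I8, idx i = idx j → i = j := by decide

theorem idx_surj : ∀ n : Fin 8, ∃ i : I8, idx i = n.val := by decide

variable {K : Type v} [Field K]

/-- The vector of a code. -/
def dec (α : K) (n : ℕ) : I8 → K :=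
  fun i => ∑ k : Fin 3, if n.testBit (3 * idx i + k.val) then α ^ k.val else 0

/-- The scalar with given bits. -/
def sc (α : K) (n : ℕ) : K := ∑ k : Fin 3, if n.testBit k.val then α ^ k.val else 0

theorem dec_eq_sc (α : K) (n : ℕ) (i : I8) : dec α n i = sc α (n / 2 ^ (3 * idx i) % 8) := by
  refine Finset.sum_congr rfl fun k _ => ?_
  rw [show (8 : ℕ) = 2 ^ 3 by norm_num, Nat.testBit_mod_two_pow, Nat.testBit_div_two_pow]
  simp [k.isLt, add_comm]

theorem dec_zero (α : K) : dec α 0 = 0 := by funext i; simp [dec]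

/-- A matrix is given by a code. -/
def Enc (α : K) (M : Matrix I8 I8 K) (A : List ℕ) : Prop :=
  A.length = 24 ∧ ∀ j < 24, A.getD j 0 < 2 ^ 24 ∧ M *ᵥ dec α (2 ^ j) = dec α (A.getD j 0)

/-- The hypotheses on the generator of the field. -/
structure Gen (α : K) : Prop where
  char : CharP K 2
  root : α ^ 3 + α + 1 = 0
  card : Nat.card K = 8

variable {α : K}

theorem Gen.finite (h : Gen α) : Finite K :=
  Nat.finite_of_card_ne_zero (by rw [h.card]; norm_num)

theorem Gen.two (h : Gen α) : (2 : K) = 0 := by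
  have := h.char
  exact CharTwo.two_eq_zero

theorem Gen.dec_xor (h : Gen α) (m n : ℕ) : dec α (m ^^^ n) = dec α m + dec α n := by
  have := h.char
  funext i
  rw [Pi.add_apply, dec, dec, dec, ← Finset.sum_add_distrib]
  refine Finset.sum_congr rfl fun k _ => ?_
  rw [Nat.testBit_xor]
  cases m.testBit (3 * idx i + k.val) <;> cases n.testBit (3 * idx i + k.val) <;>
    simp [CharTwo.add_self_eq_zero]

theorem Gen.sc_xor (h : Gen α) (m n : ℕ) : sc α (m ^^^ n) = sc α m + sc α n := by
  have := h.char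
  rw [sc, sc, sc, ← Finset.sum_add_distrib]
  refine Finset.sum_congr rfl fun k _ => ?_
  rw [Nat.testBit_xor]
  cases m.testBit k.val <;> cases n.testBit k.val <;>
    simp [CharTwo.add_self_eq_zero]

theorem Gen.sc_eq_zero (h : Gen α) {n : ℕ} (hn : n < 8) (e : sc α n = 0) : n = 0 := by
  have h3 := h.root
  have h2 := h.two
  have h1 : (1 : K) ≠ 0 := one_ne_zero
  have a0 : α ≠ 0 := fun a => h1 (by rw [a] at h3; simp at h3)
  have a1 : α + 1 ≠ 0 := fun a => h1 (by linear_combination h3 - (α ^ 2 - α + 2) * a + h2)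
  interval_cases n <;> simp [sc, Fin.sum_univ_three, Nat.testBit, Nat.shiftRight_eq_div_pow] at e ⊢
  · exact a0 e
  · exact a1 (by linear_combination e)
  · exact a0 e
  · exact h1 (by linear_combination h3 - α * e)
  · exact a1 (mul_left_cancel₀ a0 (by linear_combination e))
  · exact a0 (by linear_combination h3 - (α - 1) * e - h2)

theorem Gen.sc_inj (h : Gen α) {m n : ℕ} (hm : m < 8) (hn : n < 8) (e : sc α m = sc α n) : m = n := by
  have := h.char
  refine Nat.eq_of_xor_eq_zero (h.sc_eq_zero (Nat.xor_lt_two_pow (n := 3) hm hn) ?_)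
  rw [h.sc_xor, e, CharTwo.add_self_eq_zero]

theorem Gen.dec_inj (h : Gen α) {m n : ℕ} (hm : m < 2 ^ 24) (hn : n < 2 ^ 24)
    (e : dec α m = dec α n) : m = n := by
  refine Nat.eq_of_testBit_eq fun b => ?_
  rcases lt_or_ge b 24 with hb | hb
  · obtain ⟨i, hi⟩ := idx_surj ⟨b / 3, by omega⟩
    simp only at hi
    have := h.sc_inj (Nat.mod_lt _ (by norm_num)) (Nat.mod_lt _ (by norm_num))
      (((dec_eq_sc α m i).symm.trans (congrFun e i)).trans (dec_eq_sc α n i))
    rw [show (8 : ℕ) = 2 ^ 3 by norm_num] at this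
    have h3 := congrArg (fun x => x.testBit (b % 3)) this
    simp only [Nat.testBit_mod_two_pow, Nat.testBit_div_two_pow, hi, Nat.mod_lt b (show 3 > 0 by norm_num),
      decide_true, Bool.true_and] at h3
    rwa [show b % 3 + 3 * (b / 3) = b by omega] at h3
  · have h1 : ∀ k, k < 2 ^ 24 → k.testBit b = false := fun k hk =>
      Nat.testBit_lt_two_pow (hk.trans_le (Nat.pow_le_pow_right (by norm_num) hb))
    rw [h1 m hm, h1 n hn]

theorem Gen.dec_surj (h : Gen α) (v : I8 → K) : ∃ n < 2 ^ 24, dec α n = v := by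
  have := h.finite
  have hbij : Function.Bijective (fun n : Fin (2 ^ 24) => dec α n.val) := by
    refine (Nat.bijective_iff_injective_and_card _).2 ⟨fun a b e => Fin.ext (h.dec_inj a.isLt b.isLt e), ?_⟩
    rw [Nat.card_fin, Nat.card_fun, h.card, Nat.card_eq_fintype_card, Fintype.card_sum, Fintype.card_fin,
      show (8 : ℕ) = 2 ^ 3 by norm_num, ← pow_mul]
  obtain ⟨n, hn⟩ := hbij.2 v
  exact ⟨n.val, n.isLt, hn⟩

theorem Gen.ap_spec (h : Gen α) (M : Matrix I8 I8 K) : ∀ (A : List ℕ) (j0 n : ℕ),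
    (∀ j < A.length, M *ᵥ dec α (2 ^ (j0 + j)) = dec α (A.getD j 0)) →
    n < 2 ^ A.length → M *ᵥ dec α (n <<< j0) = dec α (ap A n) := by
  intro A
  induction A with
  | nil =>
    intro j0 n _ hn
    simp at hn
    subst hn
    simp [ap, dec_zero]
  | cons a A ih =>
    intro j0 n hA hn
    have hr := ih (j0 + 1) (n / 2) (fun j hj => by
      have := hA (j + 1) (by simpa using hj)
      simpa [Nat.add_assoc, Nat.add_comm 1 j] using this) (by simp [pow_succ] at hn; omega)
    have h0 := hA 0 (by simp)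
    have e : n <<< j0 = (if n % 2 = 1 then 2 ^ j0 else 0) ^^^ ((n / 2) <<< (j0 + 1)) := by
      refine Nat.eq_of_testBit_eq fun b => ?_
      rw [Nat.testBit_xor, Nat.testBit_shiftLeft, Nat.testBit_shiftLeft, Nat.testBit_div_two]
      rcases lt_trichotomy b j0 with hb | rfl | hb
      · split_ifs <;> simp [Nat.testBit_two_pow, hb.ne', Nat.not_le.2 hb, show ¬ j0 + 1 ≤ b by omega]
      · split_ifs with hp <;> simp [Nat.testBit_two_pow, Nat.testBit_zero, hp]
      · rw [show b - (j0 + 1) + 1 = b - j0 by omega]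
        split_ifs <;> simp [Nat.testBit_two_pow, hb.ne, show j0 + 1 ≤ b by omega, hb.le]
    rw [e, h.dec_xor, ap, h.dec_xor, mulVec_add, hr]
    congr 1
    split_ifs
    · simpa using h0
    · simp [dec_zero]

theorem ap_lt : ∀ (A : List ℕ) (n : ℕ), (∀ j < A.length, A.getD j 0 < 2 ^ 24) → ap A n < 2 ^ 24 := by
  intro A
  induction A with
  | nil => intro n _; simp [ap]
  | cons a A ih =>
    intro n h
    refine Nat.xor_lt_two_pow ?_ (ih _ fun j hj => by simpa using h (j + 1) (by simpa using hj))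
    split_ifs
    · simpa using h 0 (by simp)
    · norm_num

theorem Gen.enc_apply (h : Gen α) {M : Matrix I8 I8 K} {A : List ℕ} (hA : Enc α M A) {n : ℕ}
    (hn : n < 2 ^ 24) : M *ᵥ dec α n = dec α (ap A n) := by
  have := h.ap_spec M A 0 n (fun j hj => by simpa using (hA.2 j (hA.1 ▸ hj)).2) (by rwa [hA.1])
  simpa using this

theorem Gen.enc_mul (h : Gen α) {M N : Matrix I8 I8 K} {A B : List ℕ} (hA : Enc α M A)
    (hB : Enc α N B) : Enc α (M * N) (mulC A B) := by
  refine ⟨by simp [mulC, hB.1], fun j hj => ?_⟩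
  have hj' : j < B.length := hB.1.symm ▸ hj
  have e : (mulC A B).getD j 0 = ap A (B.getD j 0) := by
    rw [mulC, List.getD_eq_getElem _ _ hj', List.getD_eq_getElem _ _ (by simpa using hj'), List.getElem_map]
  obtain ⟨h1, h2⟩ := hB.2 j hj
  rw [e, ← mulVec_mulVec, h2, h.enc_apply hA h1]
  exact ⟨ap_lt _ _ fun k hk => (hA.2 k (hA.1 ▸ hk)).1, rfl⟩

theorem enc_one : Enc α (1 : Matrix I8 I8 K) oneC := by
  refine ⟨by simp [oneC], fun j hj => ?_⟩
  have e : oneC.getD j 0 = 2 ^ j := by
    rw [oneC, List.getD_eq_getElem _ _ (by simpa using hj), List.getElem_map, List.getElem_range]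
  rw [e, one_mulVec]
  exact ⟨Nat.pow_lt_pow_right (by norm_num) hj, rfl⟩

theorem enc_zero : Enc α (0 : Matrix I8 I8 K) zeroC := by
  refine ⟨by simp [zeroC], fun j hj => ?_⟩
  have e : zeroC.getD j 0 = 0 := by
    rw [zeroC, List.getD_eq_getElem _ _ (by simpa using hj), List.getElem_replicate]
  rw [e, zero_mulVec, dec_zero]
  exact ⟨by norm_num, rfl⟩

theorem Gen.enc_add (h : Gen α) {M N : Matrix I8 I8 K} {A B : List ℕ} (hA : Enc α M A)
    (hB : Enc α N B) : Enc α (M + N) (addC A B) := by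
  refine ⟨by simp [addC, hA.1, hB.1], fun j hj => ?_⟩
  have ha : j < A.length := hA.1.symm ▸ hj
  have hb : j < B.length := hB.1.symm ▸ hj
  have e : (addC A B).getD j 0 = A.getD j 0 ^^^ B.getD j 0 := by
    rw [addC, List.getD_eq_getElem _ _ ha, List.getD_eq_getElem _ _ hb,
      List.getD_eq_getElem _ _ (by simp; omega), List.getElem_zipWith]
  obtain ⟨a1, a2⟩ := hA.2 j hj
  obtain ⟨b1, b2⟩ := hB.2 j hj
  rw [e, add_mulVec, a2, b2, h.dec_xor]
  exact ⟨Nat.xor_lt_two_pow a1 b1, rfl⟩

theorem Gen.enc_pow (h : Gen α) {M : Matrix I8 I8 K} {A : List ℕ} (hA : Enc α M A) :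
    ∀ n, Enc α (M ^ n) (powC A n)
  | 0 => by simpa [powC] using enc_one
  | n + 1 => by rw [pow_succ', powC]; exact h.enc_mul hA (h.enc_pow hA n)

/-- The sum of the first powers of a matrix. -/
def normM (M : Matrix I8 I8 K) (n : ℕ) : Matrix I8 I8 K := ∑ i ∈ Finset.range n, M ^ i

theorem Gen.enc_norm (h : Gen α) {M : Matrix I8 I8 K} {A : List ℕ} (hA : Enc α M A) :
    ∀ n, Enc α (normM M n) (normC A n)
  | 0 => by simpa [normC, normM] using enc_zero
  | n + 1 => by
    have e : normM M (n + 1) = 1 + M * normM M n := by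
      rw [normM, normM, Finset.sum_range_succ', Finset.mul_sum, add_comm]
      simp [pow_succ']
    rw [e, normC]
    exact h.enc_add enc_one (h.enc_mul hA (h.enc_norm hA n))

theorem Gen.enc_inj (h : Gen α) {M N : Matrix I8 I8 K} {A : List ℕ} (hM : Enc α M A)
    (hN : Enc α N A) : M = N := by
  refine Matrix.ext_of_mulVec_single fun i => ?_
  obtain ⟨n, hn, e⟩ := h.dec_surj (Pi.single i 1)
  rw [← e, h.enc_apply hM hn, h.enc_apply hN hn]

theorem Gen.code_inj (h : Gen α) {M : Matrix I8 I8 K} {A B : List ℕ} (hA : Enc α M A)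
    (hB : Enc α M B) : A = B := by
  refine List.ext_getElem (hA.1.trans hB.1.symm) fun j h1 h2 => ?_
  have := h.dec_inj (hA.2 j (hA.1 ▸ h1)).1 (hB.2 j (hA.1 ▸ h1)).1
    ((hA.2 j (hA.1 ▸ h1)).2.symm.trans (hB.2 j (hA.1 ▸ h1)).2)
  rwa [List.getD_eq_getElem _ _ h1, List.getD_eq_getElem _ _ h2] at this

theorem Gen.eq_iff (h : Gen α) {M N : Matrix I8 I8 K} {A B : List ℕ} (hM : Enc α M A)
    (hN : Enc α N B) : M = N ↔ A = B :=
  ⟨fun e => h.code_inj (e ▸ hM) hN, fun e => h.enc_inj hM (e ▸ hN)⟩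

/-- A field with eight elements has a generator of the wanted kind. -/
theorem exists_gen (hK : Nat.card K = 8) : ∃ α : K, Gen α := by
  classical
  have : Finite K := Nat.finite_of_card_ne_zero (by rw [hK]; norm_num)
  haveI : Fintype K := Fintype.ofFinite K
  rw [Nat.card_eq_fintype_card] at hK
  obtain ⟨p, hp⟩ := CharP.exists K
  obtain ⟨n, hpp, hn⟩ := FiniteField.card K p
  rw [hK] at hn
  obtain rfl : p = 2 := (Nat.prime_dvd_prime_iff_eq hpp Nat.prime_two).1
    (hpp.dvd_of_dvd_pow (show p ∣ 2 ^ 3 by rw [show (2 : ℕ) ^ 3 = 8 by norm_num, hn]; exact dvd_pow_self _ n.pos.ne'))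
  have h2 : (2 : K) = 0 := CharTwo.two_eq_zero
  obtain ⟨a, ha0, ha1⟩ : ∃ a : K, a ≠ 0 ∧ a ≠ 1 := by
    by_contra hne
    push Not at hne
    have : Fintype.card K ≤ ({0, 1} : Finset K).card := Finset.card_le_card fun x _ => by
      by_cases hx : x = 0
      · simp [hx]
      · simp [hne x hx]
    rw [hK] at this
    have := this.trans Finset.card_le_two
    omega
  have h7 : a ^ 7 = 1 := by
    have := FiniteField.pow_card_sub_one_eq_one a ha0
    rwa [hK] at this
  have key : (a ^ 3 + a + 1) * (a ^ 3 + a ^ 2 + 1) = 0 :=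
    mul_left_cancel₀ (sub_ne_zero.2 ha1) (by linear_combination h7 + (a ^ 4 - a ^ 3) * h2)
  have hK' : Nat.card K = 8 := by rw [Nat.card_eq_fintype_card, hK]
  rcases mul_eq_zero.1 key with e | e
  · exact ⟨a, hp, e, hK'⟩
  · refine ⟨a⁻¹, hp, ?_, hK'⟩
    field_simp
    linear_combination e

end CfsgLib.Spectrum.D4Two
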