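import Mathlib

/-!
Elementary linear algebra in small dimension used for elements of order twelve, fourteen and
twenty-one.
-/

set_option autoImplicit false

namespace CfsgLib.Spectrum.D4Two

universe u v

variable {K : Type u} [Field K] {V : Type v} [AddCommGroup V] [Module K V] [FiniteDimensional K V]
  (W : Submodule K V)

omit [FiniteDimensional K V] in
theorem chain_indep {n : V →ₗ[K] V} {x : V} (h4 : n (n (n (n x))) = 0) (h3 : n (n (n x)) ≠ 0) :
    LinearIndependent K ![x, n x, n (n x), n (n (n x))] := by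
  rw [Fintype.linearIndependent_iff]
  intro g hg
  simp only [Fin.sum_univ_four, Matrix.cons_val] at hg
  have h5 : n (n (n (n (n x)))) = 0 := by rw [h4, map_zero]
  have h6 : n (n (n (n (n (n x))))) = 0 := by rw [h5, map_zero]
  have e3 := congrArg (fun y => n (n (n y))) hg
  simp only [map_add, map_smul, map_zero, h4, h5, h6, smul_zero, add_zero] at e3
  have g0 : g 0 = 0 := (smul_eq_zero.1 e3).resolve_right h3
  have e2 := congrArg (fun y => n (n y)) hg
  simp only [map_add, map_smul, map_zero, h4, h5, g0, smul_zero, zero_smul, zero_add, add_zero] at e2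
  have g1 : g 1 = 0 := (smul_eq_zero.1 e2).resolve_right h3
  have e1 := congrArg (fun y => n y) hg
  simp only [map_add, map_smul, map_zero, h4, g0, g1, smul_zero, zero_smul, zero_add, add_zero] at e1
  have g2 : g 2 = 0 := (smul_eq_zero.1 e1).resolve_right h3
  simp only [g0, g1, g2, zero_smul, zero_add] at hg
  have g3 : g 3 = 0 := (smul_eq_zero.1 hg).resolve_right h3
  intro i
  fin_cases i <;> assumption

variable {W}

omit [FiniteDimensional K V] in
theorem chain_mem {n : V →ₗ[K] V} {x : V} (hx : x ∈ W) (hn : ∀ y ∈ W, n y ∈ W) :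
    ∀ i : Fin 4, ![x, n x, n (n x), n (n (n x))] i ∈ W := by
  intro i
  fin_cases i
  exacts [hx, hn _ hx, hn _ (hn _ hx), hn _ (hn _ (hn _ hx))]

theorem card_le_of_indep {m : ℕ} {v : Fin m → V} (hv : LinearIndependent K v) (hmem : ∀ i, v i ∈ W) :
    m ≤ Module.finrank K W := by
  have h : LinearIndependent K (fun i => (⟨v i, hmem i⟩ : W)) :=
    LinearIndependent.of_comp W.subtype hv
  simpa using h.fintype_card_le_finrank

theorem exists_coords {m : ℕ} {v : Fin m → V} (hv : LinearIndependent K v) (hmem : ∀ i, v i ∈ W)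
    (hW : Module.finrank K W ≤ m) {y : V} (hy : y ∈ W) : ∃ c : Fin m → K, ∑ i, c i • v i = y := by
  have e : Submodule.span K (Set.range v) = W :=
    Submodule.eq_of_le_of_finrank_le (Submodule.span_le.2 (by rintro _ ⟨i, rfl⟩; exact hmem i))
      (by rw [finrank_span_eq_card hv, Fintype.card_fin]; exact hW)
  rw [← e] at hy
  exact (Submodule.mem_span_range_iff_exists_fun K).1 hy

/-- A nilpotent map on a space of dimension at most three has vanishing cube. -/
theorem cube_zero {n : V →ₗ[K] V} (hn : ∀ y ∈ W, n y ∈ W) (h4 : ∀ y, n (n (n (n y))) = 0)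
    (hW : Module.finrank K W ≤ 3) {x : V} (hx : x ∈ W) : n (n (n x)) = 0 := by
  by_contra h3
  have := card_le_of_indep (chain_indep (h4 x) h3) (chain_mem hx hn)
  omega

/-- A single Jordan block of size four. -/
theorem chain_span {n : V →ₗ[K] V} (hn : ∀ y ∈ W, n y ∈ W) (h4 : ∀ y, n (n (n (n y))) = 0)
    (hW : Module.finrank K W ≤ 4) {x : V} (hx : x ∈ W) (h3 : n (n (n x)) ≠ 0) {y : V} (hy : y ∈ W) :
    ∃ a b : K, n (n y) = a • n (n x) + b • n (n (n x)) ∧ n (n (n y)) = a • n (n (n x)) := by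
  obtain ⟨c, rfl⟩ := exists_coords (chain_indep (h4 x) h3) (chain_mem hx hn) hW hy
  refine ⟨c 0, c 1, ?_, ?_⟩ <;>
    simp [Fin.sum_univ_four, h4, map_zero]

omit [FiniteDimensional K V] in
theorem pair_zero {d : V →ₗ[K] V} (hno : ∀ a b : K, a ^ 2 - a * b + b ^ 2 = 0 → a = 0 ∧ b = 0)
    {w : V} (hw : d (d w) + d w + w = 0) (hw0 : w ≠ 0) {a b : K} (h : a • w + b • d w = 0) :
    a = 0 ∧ b = 0 := by
  have h' : a • d w + b • d (d w) = 0 := by simpa using congrArg d h
  have e : d (d w) = -(d w + w) := eq_neg_of_add_eq_zero_left (by rw [← add_assoc]; exact hw)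
  rw [e] at h'
  have key : (a ^ 2 - a * b + b ^ 2) • w = 0 := by
    have : (a - b) • (a • w + b • d w) - b • (a • d w + b • -(d w + w)) = 0 := by
      rw [h, h', smul_zero, smul_zero, sub_zero]
    rw [← this]
    module
  exact hno a b ((smul_eq_zero.1 key).resolve_right hw0)

/-- A nilpotent map commuting with an irreducible quadratic map on a space of dimension four. -/
theorem square_zero {n d : V →ₗ[K] V} (hn : ∀ y ∈ W, n y ∈ W) (hd : ∀ y ∈ W, d y ∈ W)
    (h4 : ∀ y, n (n (n (n y))) = 0) (hc : ∀ y, d (n y) = n (d y))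
    (hq : ∀ y ∈ W, d (d y) + d y + y = 0)
    (hno : ∀ a b : K, a ^ 2 - a * b + b ^ 2 = 0 → a = 0 ∧ b = 0)
    (hW : Module.finrank K W ≤ 4) {x : V} (hx : x ∈ W) : n (n x) = 0 := by
  by_contra h2
  obtain ⟨v, hv, v2, v3⟩ : ∃ v ∈ W, n (n v) ≠ 0 ∧ n (n (n v)) = 0 := by
    by_cases h3 : n (n (n x)) = 0
    · exact ⟨x, hx, h2, h3⟩
    · exact ⟨n x, hn _ hx, h3, h4 x⟩
  have key : LinearIndependent K ![v, n v, n (n v), d v, d (n v), d (n (n v))] := by
    rw [Fintype.linearIndependent_iff]
    intro g hg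
    simp only [Fin.sum_univ_six, Matrix.cons_val] at hg
    have hp := @pair_zero K _ V _ _ d hno (n (n v)) (hq _ (hn _ (hn _ hv))) v2
    have v4 : n (n (n (n v))) = 0 := h4 v
    have v2' : n (n (d v)) = d (n (n v)) := by rw [hc, hc]
    have e2 := congrArg (fun y => n (n y)) hg
    simp only [map_add, map_smul, map_zero, ← hc, v3, v4, smul_zero, add_zero] at e2
    obtain ⟨g0, g3⟩ := hp e2
    have e1 := congrArg (fun y => n y) hg
    simp only [map_add, map_smul, map_zero, ← hc, v3, g0, g3, smul_zero, zero_smul, zero_add, add_zero] at e1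
    obtain ⟨g1, g4⟩ := hp e1
    simp only [g0, g1, g3, g4, zero_smul, zero_add, add_zero] at hg
    obtain ⟨g2, g5⟩ := hp hg
    intro i
    fin_cases i <;> assumption
  have hmem : ∀ i : Fin 6, ![v, n v, n (n v), d v, d (n v), d (n (n v))] i ∈ W := by
    intro i
    fin_cases i
    exacts [hv, hn _ hv, hn _ (hn _ hv), hd _ hv, hd _ (hn _ hv), hd _ (hn _ (hn _ hv))]
  have := card_le_of_indep key hmem
  omega

omit [FiniteDimensional K V] in
theorem indep_pair {w0 x : V} (h0 : w0 ≠ 0) (hx : ∀ c : K, c • w0 ≠ x) :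
    LinearIndependent K ![w0, x] :=
  (LinearIndependent.pair_iff' h0).2 hx

/-- A map of order three on a plane with only trivial cube roots of unity in the field. -/
theorem order_three_plane {s : V →ₗ[K] V} (hs : ∀ y ∈ W, s y ∈ W) (h3 : ∀ y ∈ W, s (s (s y)) = y)
    (hroot : ∀ c : K, c ^ 3 = 1 → c = 1) (hne : (3 : K) ≠ 0) (hW : Module.finrank K W ≤ 2) :
    (∀ y ∈ W, s y = y) ∨ ∀ y ∈ W, s (s y) + s y + y = 0 := by
  by_cases hf : ∃ w0 ∈ W, w0 ≠ 0 ∧ s w0 = w0
  · obtain ⟨w0, hw, h0, hfix⟩ := hf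
    left
    intro x hx
    by_cases hc : ∃ c : K, c • w0 = x
    · obtain ⟨c, rfl⟩ := hc
      rw [map_smul, hfix]
    push Not at hc
    have hi := indep_pair h0 hc
    obtain ⟨a, ha⟩ := exists_coords hi (fun i => by fin_cases i <;> assumption) hW (hs x hx)
    simp only [Fin.sum_univ_two, Matrix.cons_val] at ha
    have e : s (s (s x)) = (a 0 * (1 + a 1 + a 1 ^ 2)) • w0 + a 1 ^ 3 • x := by
      simp only [← ha, map_add, map_smul, hfix]
      module
    have hz : (a 0 * (1 + a 1 + a 1 ^ 2)) • w0 + (a 1 ^ 3 - 1) • x = 0 := by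
      rw [sub_smul, one_smul, ← add_sub_assoc, ← e, h3 x hx, sub_self]
    obtain ⟨z1, z2⟩ := LinearIndependent.pair_iff.1 hi _ _ hz
    have a1 := hroot _ (sub_eq_zero.1 z2)
    rw [a1] at z1 ha
    have : (1 : K) + 1 + 1 ^ 2 = 3 := by norm_num
    rw [this] at z1
    rw [(mul_eq_zero.1 z1).resolve_right hne, zero_smul, zero_add, one_smul] at ha
    exact ha.symm
  · push Not at hf
    right
    intro y hy
    by_contra h
    have hm : s (s y) + s y + y ∈ W := add_mem (add_mem (hs _ (hs _ hy)) (hs _ hy)) hy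
    refine hf _ hm h ?_
    rw [map_add, map_add, h3 y hy]
    abel

/-- An involution on a plane moves it into a line in characteristic two. -/
theorem involution_plane [CharP K 2] {s : V →ₗ[K] V} (hs : ∀ y ∈ W, s y ∈ W)
    (h2 : ∀ y ∈ W, s (s y) = y) (hW : Module.finrank K W ≤ 2) :
    ∃ w0 : V, ∀ y ∈ W, ∃ c : K, s y + y = c • w0 := by
  have two : ∀ y : V, y + y = 0 := fun y => by
    rw [← two_smul K, CharTwo.two_eq_zero, zero_smul]
  by_cases hall : ∀ y ∈ W, s y + y = 0
  · exact ⟨0, fun y hy => ⟨0, by simp [hall y hy]⟩⟩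
  push Not at hall
  obtain ⟨x, hx, h0⟩ := hall
  refine ⟨s x + x, fun y hy => ?_⟩
  have hfix : s (s x + x) = s x + x := by rw [map_add, h2 x hx, add_comm]
  have hi : LinearIndependent K ![s x + x, x] := indep_pair h0 fun c hc => h0 (by
    have : s x = x := by
      have := congrArg s hc
      rw [map_smul, hfix, hc] at this
      exact this.symm
    rw [this, two])
  obtain ⟨a, rfl⟩ := exists_coords hi (fun i => by
    fin_cases i
    exacts [add_mem (hs x hx) hx, hx]) hW hy
  refine ⟨a 1, ?_⟩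
  simp only [Fin.sum_univ_two, Matrix.cons_val, map_add (f := s), map_smul, h2 x hx]
  linear_combination (norm := module) (two (a 0 • (s x + x)))

end CfsgLib.Spectrum.D4Two
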