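import Cfsg.Agent.Lib.Spectrum.D4Two.Norms
import Cfsg.Agent.Lib.Spectrum.D4Two.Linear

/-!
Eigenframes of the elements of order three and seven of the group of type 3D4 over the field with
two elements.
-/

set_option autoImplicit false
set_option synthInstance.maxSize 4000
set_option maxRecDepth 20000

namespace CfsgLib.Spectrum.D4Two

open Matrix Cfsg Cfsg.Lie CfsgLib.Classical CfsgLib.Chev CfsgLib.Chev.Ortho

universe v

variable {K : Type v} [Field K]

/-- A basis in which a matrix is the projection to the first coordinates. -/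
structure Frame (E : Matrix I8 I8 K) (k : ℕ) where
  P : Matrix I8 I8 K
  Q : Matrix I8 I8 K
  qp : Q * P = 1
  pq : P * Q = 1
  eq : Q * E * P = Matrix.diagonal fun i => if idx i < k then 1 else 0

variable {E : Matrix I8 I8 K} {k : ℕ}

theorem Frame.mul_left (F : Frame E k) :
    F.Q * E = (Matrix.diagonal fun i => if idx i < k then (1 : K) else 0) * F.Q := by
  rw [← F.eq, mul_assoc, F.pq, mul_one]

theorem Frame.idem (F : Frame E k) : E * E = E := by
  have h : F.Q * (E * E) = F.Q * E := by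
    rw [← mul_assoc, F.mul_left, mul_assoc, F.mul_left, ← mul_assoc, Matrix.diagonal_mul_diagonal]
    congr 2
    funext i
    split_ifs <;> simp
  calc E * E = F.P * F.Q * (E * E) := by rw [F.pq, one_mul]
    _ = F.P * F.Q * E := by rw [mul_assoc, h, ← mul_assoc]
    _ = E := by rw [F.pq, one_mul]

theorem Frame.coord_fix (F : Frame E k) {v : I8 → K} (hv : E *ᵥ v = v) {c : I8} (hc : ¬ idx c < k) :
    (F.Q *ᵥ v) c = 0 := by
  rw [← hv, mulVec_mulVec, F.mul_left, ← mulVec_mulVec, mulVec_diagonal, if_neg hc, zero_mul]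

theorem Frame.coord_ker (F : Frame E k) {v : I8 → K} (hv : E *ᵥ v = 0) {c : I8} (hc : idx c < k) :
    (F.Q *ᵥ v) c = 0 := by
  have h := congrArg (fun A => (A *ᵥ v) c) F.mul_left
  simp only [← mulVec_mulVec, hv, mulVec_zero, Pi.zero_apply, mulVec_diagonal, if_pos hc, one_mul] at h
  exact h.symm

/-- The fixed space of a matrix. -/
def fixW (E : Matrix I8 I8 K) : Submodule K (I8 → K) := LinearMap.ker (E - 1).mulVecLin

/-- The kernel of a matrix. -/
def kerW (E : Matrix I8 I8 K) : Submodule K (I8 → K) := LinearMap.ker E.mulVecLin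

theorem mem_fixW {v : I8 → K} : v ∈ fixW E ↔ E *ᵥ v = v := by
  simp [fixW, sub_mulVec, sub_eq_zero]

theorem mem_kerW {v : I8 → K} : v ∈ kerW E ↔ E *ᵥ v = 0 := by simp [kerW]

theorem finrank_le_supp (W : Submodule K (I8 → K)) (P Q : Matrix I8 I8 K) (hPQ : P * Q = 1) (s : Finset I8)
    (h : ∀ v ∈ W, ∀ c ∉ s, (Q *ᵥ v) c = 0) : Module.finrank K W ≤ s.card := by
  let f : W →ₗ[K] (s → K) :=
    { toFun := fun v c => (Q *ᵥ (v : I8 → K)) c
      map_add' := fun v w => by funext c; simp [mulVec_add]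
      map_smul' := fun a v => by funext c; simp [mulVec_smul] }
  have hf : Function.Injective f := by
    rw [← LinearMap.ker_eq_bot, Submodule.eq_bot_iff]
    intro v hv
    have hQ : Q *ᵥ (v : I8 → K) = 0 := by
      funext c
      by_cases hc : c ∈ s
      · exact congrFun (LinearMap.mem_ker.1 hv) ⟨c, hc⟩
      · exact h v v.2 c hc
    refine Subtype.ext ?_
    have := congrArg (fun w => P *ᵥ w) hQ
    simpa [mulVec_mulVec, hPQ] using this
  have := LinearMap.finrank_le_finrank_of_injective hf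
  simpa using this

theorem Frame.finrank_fix (F : Frame E k) :
    Module.finrank K (fixW E) ≤ (Finset.univ.filter fun c : I8 => idx c < k).card :=
  finrank_le_supp _ F.P F.Q F.pq _ fun v hv c hc => F.coord_fix (mem_fixW.1 hv) (by simpa using hc)

theorem Frame.finrank_ker (F : Frame E k) :
    Module.finrank K (kerW E) ≤ (Finset.univ.filter fun c : I8 => ¬ idx c < k).card :=
  finrank_le_supp _ F.P F.Q F.pq _ fun v hv c hc => F.coord_ker (mem_kerW.1 hv) (by simpa using hc)

theorem supp_cards : (Finset.univ.filter fun c : I8 => idx c < 2).card = 2 ∧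
    (Finset.univ.filter fun c : I8 => idx c < 4).card = 4 ∧
    (Finset.univ.filter fun c : I8 => ¬ idx c < 4).card = 4 := by decide

theorem Frame.split (F : Frame E k) (v : I8 → K) :
    E *ᵥ v ∈ fixW E ∧ v - E *ᵥ v ∈ kerW E := by
  refine ⟨mem_fixW.2 ?_, mem_kerW.2 ?_⟩
  · rw [mulVec_mulVec, F.idem]
  · rw [mulVec_sub, mulVec_mulVec, F.idem, sub_self]

theorem fixW_inv {A : Matrix I8 I8 K} (h : Commute A E) {v : I8 → K} (hv : v ∈ fixW E) :
    A *ᵥ v ∈ fixW E := by
  rw [mem_fixW] at hv ⊢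
  rw [mulVec_mulVec, ← h.eq, ← mulVec_mulVec, hv]

theorem kerW_inv {A : Matrix I8 I8 K} (h : Commute A E) {v : I8 → K} (hv : v ∈ kerW E) :
    A *ᵥ v ∈ kerW E := by
  rw [mem_kerW] at hv ⊢
  rw [mulVec_mulVec, ← h.eq, ← mulVec_mulVec, hv, mulVec_zero]

theorem cert_of_mem {α β : Type*} {L : List α} {C : List β} {f : α × β → Bool}
    (hl : C.length = L.length) (h : (List.zip L C).all f = true) {X : α} (hX : X ∈ L) :
    ∃ o, f (X, o) = true := by
  have e : (List.zip L C).map Prod.fst = L := List.map_fst_zip (by omega)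
  rw [← e, List.mem_map] at hX
  obtain ⟨⟨Y, o⟩, hm, rfl⟩ := hX
  exact ⟨o, List.all_eq_true.1 h _ hm⟩

variable [Fintype K] (D : Model K)

theorem Model.sc_one : sc D.α 1 = 1 := by
  rw [show (1 : ℕ) = pw 0 from rfl, D.gen.sc_pw, pow_zero]

theorem sc_zero (α : K) : sc α 0 = 0 := by simp [sc]

theorem Model.diag_ind (k : ℕ) : mat D.α (diagCols (ind k)) =
    Matrix.diagonal fun i => if idx i < k then (1 : K) else 0 := by
  rw [D.gen.mat_diag fun c hc => by rw [ind_getD k hc]; split_ifs <;> norm_num]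
  congr 1
  funext i
  rw [ind_getD k (idx_lt i)]
  split_ifs <;> simp [D.sc_one, sc_zero]

theorem Model.frame_of_code {E : Matrix I8 I8 K} {C P Q : List ℕ} {k : ℕ} (hE : Enc D.α E C)
    (hP : ltB P = true) (hQ : ltB Q = true) (h1 : mulC (matC Q) (matC P) = oneC)
    (h2 : mulC (matC P) (matC Q) = oneC)
    (h3 : mulC (matC Q) (mulC C (matC P)) = matC (diagCols (ind k)))
    (hd : ltB (diagCols (ind k)) = true) :
    ∃ F : Frame E k, F.P = mat D.α P ∧ F.Q = mat D.α Q := by
  have h := D.gen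
  refine ⟨⟨mat D.α P, mat D.α Q, ?_, ?_, ?_⟩, rfl, rfl⟩
  · exact h.enc_inj (h1 ▸ h.enc_mul (h.enc_mat hQ) (h.enc_mat hP)) enc_one
  · exact h.enc_inj (h2 ▸ h.enc_mul (h.enc_mat hP) (h.enc_mat hQ)) enc_one
  · rw [← D.diag_ind, mul_assoc]
    exact h.enc_inj (h3 ▸ h.enc_mul (h.enc_mat hQ) (h.enc_mul hE (h.enc_mat hP))) (h.enc_mat hd)

theorem ltB_ind : ltB (diagCols (ind 2)) = true ∧ ltB (diagCols (ind 4)) = true ∧
    ltB (diagCols eig7) = true := by decide +kernel

theorem eig7_ne : ∀ i j : I8, ¬ idx j < 2 → i ≠ j → eig7.getD (idx i) 0 ≠ eig7.getD (idx j) 0 := by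
  decide

theorem eig7_lt : ∀ c < 8, eig7.getD c 0 < 8 := by decide

/-- The frame of an element of order three with fixed vectors. -/
theorem Model.three_frame {X : List ℕ} (hX : X ∈ list3) {s : ↥(G3 K)} (hs : D.Has s X) (h3 : s ^ 3 = 1)
    (hN : normM (D.mx s) 3 ≠ 0) (h1 : s ≠ 1) :
    ∃ k, (k = 2 ∨ k = 4) ∧ Nonempty (Frame (normM (D.mx s) 3) k) := by
  obtain ⟨o, ho⟩ := cert_of_mem (f := fun p : List ℕ × Option (ℕ × List ℕ × List ℕ) => cert3B p.1 p.2)
    cert3_ok.1 cert3_ok.2 hX
  cases o with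
  | none =>
    simp only [cert3B, Bool.or_eq_true, bne_iff_ne, beq_iff_eq] at ho
    rcases ho with (ho | ho) | ho
    · exact absurd ((D.eq_one_iff (D.has_pow hs 3)).1 h3) ho
    · exact absurd ((D.eq_one_iff hs).2 ho) h1
    · exact absurd (D.normM_zero hs ho) hN
  | some c =>
    obtain ⟨k, P, Q⟩ := c
    simp only [cert3B, Bool.and_eq_true, Bool.or_eq_true, beq_iff_eq] at ho
    obtain ⟨⟨⟨⟨⟨hk, hP⟩, hQ⟩, h1⟩, h2⟩, h3'⟩ := ho
    have hd : ltB (diagCols (ind k)) = true := by
      rcases hk with rfl | rfl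
      exacts [ltB_ind.1, ltB_ind.2.1]
    obtain ⟨F, -⟩ := D.frame_of_code (D.gen.enc_norm hs 3) hP hQ h1 h2 h3' hd
    exact ⟨k, hk, ⟨F⟩⟩

/-- The frame of an element of order seven with fixed vectors. -/
theorem Model.seven_frame {X : List ℕ} (hX : X ∈ list7) {t : ↥(G3 K)} (ht : D.Has t X)
    (hN : normM (D.mx t) 7 ≠ 0) (h1 : t ≠ 1) :
    ∃ F : Frame (normM (D.mx t) 7) 2, ∀ S : Matrix I8 I8 K, Commute S (D.mx t) → ∀ m, S ^ m = 1 →
      (∀ c : K, c ^ m = 1 → c = 1) → ∀ v, v ∈ kerW (normM (D.mx t) 7) → S *ᵥ v = v := by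
  obtain ⟨o, ho⟩ := cert_of_mem (f := fun p : List ℕ × Option (List ℕ × List ℕ) => cert7B p.1 p.2)
    cert7_ok.1 cert7_ok.2 hX
  cases o with
  | none =>
    simp only [cert7B, Bool.or_eq_true, beq_iff_eq] at ho
    rcases ho with ho | ho
    · exact absurd ((D.eq_one_iff ht).2 ho) h1
    · exact absurd (D.normM_zero ht ho) hN
  | some c =>
    obtain ⟨P, Q⟩ := c
    simp only [cert7B, Bool.and_eq_true, beq_iff_eq] at ho
    obtain ⟨⟨⟨⟨⟨hP, hQ⟩, hqp⟩, hpq⟩, hT⟩, h3'⟩ := ho
    have h := D.gen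
    obtain ⟨F, eP, eQ⟩ := D.frame_of_code (h.enc_norm ht 7) hP hQ hqp hpq h3' ltB_ind.1
    refine ⟨F, fun S hS m hm hroot v hv => ?_⟩
    have hTd : F.Q * D.mx t * F.P = Matrix.diagonal fun i => sc D.α (eig7.getD (idx i) 0) := by
      rw [eP, eQ, mul_assoc, ← h.mat_diag eig7_lt]
      exact h.enc_inj (hT ▸ h.enc_mul (h.enc_mat hQ) (h.enc_mul ht (h.enc_mat hP))) (h.enc_mat ltB_ind.2.2)
    set S' := F.Q * S * F.P with hS'
    have hc : S' * (F.Q * D.mx t * F.P) = F.Q * D.mx t * F.P * S' := by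
      have e : ∀ A B : Matrix I8 I8 K, F.Q * A * F.P * (F.Q * B * F.P) = F.Q * (A * B) * F.P := by
        intro A B
        calc F.Q * A * F.P * (F.Q * B * F.P) = F.Q * A * (F.P * F.Q) * B * F.P := by simp only [mul_assoc]
          _ = _ := by rw [F.pq, mul_one, mul_assoc F.Q]
      rw [hS', e, e, hS.eq]
    rw [hTd] at hc
    have off : ∀ i j, ¬ idx j < 2 → i ≠ j → S' i j = 0 := by
      intro i j hj hij
      have e := congrFun (congrFun hc i) j
      rw [mul_diagonal, diagonal_mul, mul_comm] at e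
      by_contra hne
      refine eig7_ne i j hj hij (h.sc_inj (eig7_lt _ (idx_lt i)) (eig7_lt _ (idx_lt j)) ?_)
      exact (mul_right_cancel₀ hne e).symm
    have col : ∀ j, ¬ idx j < 2 → S' *ᵥ Pi.single j 1 = S' j j • Pi.single j 1 := by
      intro j hj
      funext i
      rw [mulVec_single_one]
      by_cases hij : i = j
      · subst hij; simp
      · simp [off i j hj hij, hij]
    have one : ∀ j, ¬ idx j < 2 → S' j j = 1 := by
      intro j hj
      refine hroot _ ?_
      have hpow : ∀ n, (S' ^ n) *ᵥ Pi.single j 1 = (S' j j) ^ n • Pi.single j (1 : K) := by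
        intro n
        induction n with
        | zero => simp only [pow_zero, one_mulVec, one_smul]
        | succ n ih => rw [pow_succ, ← mulVec_mulVec, col j hj, mulVec_smul, ih, smul_smul, pow_succ']
      have hSm : S' ^ m = 1 := by
        have : ∀ n, S' ^ n = F.Q * S ^ n * F.P := by
          intro n
          induction n with
          | zero => simp [F.qp]
          | succ n ih =>
            rw [pow_succ, ih, hS', pow_succ]
            calc F.Q * S ^ n * F.P * (F.Q * S * F.P) = F.Q * S ^ n * (F.P * F.Q) * S * F.P := by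
                  simp only [mul_assoc]
              _ = _ := by rw [F.pq, mul_one, mul_assoc F.Q]
        rw [this, hm, mul_one, F.qp]
      have e := congrFun (hpow m) j
      rw [hSm, one_mulVec] at e
      simpa using e.symm
    have hw : S' *ᵥ (F.Q *ᵥ v) = F.Q *ᵥ v := by
      funext i
      rw [mulVec, dotProduct, Finset.sum_eq_single i]
      · by_cases hi : idx i < 2
        · rw [F.coord_ker (mem_kerW.1 hv) hi, mul_zero]
        · rw [one i hi, one_mul]
      · intro j _ hji
        by_cases hj : idx j < 2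
        · rw [F.coord_ker (mem_kerW.1 hv) hj, mul_zero]
        · rw [off i j hj (Ne.symm hji), zero_mul]
      · simp
    have e := congrArg (fun w => F.P *ᵥ w) hw
    simp only [mulVec_mulVec, hS', ← mul_assoc, F.pq, one_mul, one_mulVec] at e
    rwa [mul_assoc, F.pq, mul_one] at e

end CfsgLib.Spectrum.D4Two
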