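import Cfsg.Agent.Lib.Spectrum.D4Two.Cases
import Cfsg.Agent.Lib.Spectrum.Semidirect

/-!
Powers of the natural module extend the group of type 3D4 over the field with two elements without
changing the set of element orders.
-/

set_option autoImplicit false
set_option synthInstance.maxSize 4000
set_option maxRecDepth 20000

namespace CfsgLib.Spectrum.D4Two

open Matrix Cfsg Cfsg.Lie CfsgLib.Classical CfsgLib.Chev CfsgLib.Chev.Ortho

universe u v

variable {K : Type v} [Field K] [Fintype K] (D : Model K)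

/-- A rank one map of the form of the cube of a unipotent element is zero. -/
theorem rank_one_zero {V : Type v} [AddCommGroup V] [Module K V] (B : V → V → K)
    (hadd : ∀ a b c, B a (b + c) = B a b + B a c) (hadd' : ∀ a b c, B (a + b) c = B a c + B b c)
    (hsmul : ∀ (t : K) a b, B (t • a) b = t * B a b)
    (hnd : ∀ w, (∀ v, B w v = 0) → w = 0) (T : V →ₗ[K] V) (x : V)
    (hT : ∀ v, ∃ a : K, T v = a • T x) (h0 : ∀ v, B (T v) v = 0) : T x = 0 := by
  by_contra hne
  obtain ⟨v2, hv2⟩ := not_forall.1 fun hall => hne (hnd _ hall)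
  obtain ⟨c, hc⟩ := hT v2
  have e := h0 v2
  rw [hc, hsmul] at e
  have hc0 : c = 0 := (mul_eq_zero.1 e).resolve_right hv2
  have e2 := h0 (x + v2)
  rw [map_add, hc, hc0, zero_smul, add_zero, hadd, h0 x, zero_add] at e2
  exact hv2 e2

set_option maxHeartbeats 1000000 in
theorem Model.case_twelve {g : ↥(G3 K)} (h : orderOf g = 12) : normM (D.mx g) 12 = 0 := by
  have := D.gen.char
  obtain ⟨y, X, hX, hy⟩ := D.conj_three (b := 1) (g := g ^ 4)
    (by rw [pow_one, ← pow_mul, show 4 * 3 = orderOf g by rw [h], pow_orderOf_eq_one])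
  rw [← conj_pow] at hy
  rw [← D.normM_conj_iff y]
  have ho : orderOf (y * g * y⁻¹) = 12 := by rw [← h]; exact MulEquiv.orderOf_eq (MulAut.conj y) g
  generalize y * g * y⁻¹ = g' at hy ho ⊢
  have hg12 : g' ^ 12 = 1 := by rw [← ho, pow_orderOf_eq_one]
  set M := D.mx g' with hM
  set S := D.mx (g' ^ 4) with hS
  set U := D.mx (g' ^ 3) with hU
  have hU4 : U ^ 4 = 1 := by rw [hU, ← D.mx_pow, ← pow_mul, hg12, D.mx_one]
  have hUM : U = M ^ 3 := D.mx_pow g' 3
  have hSM : S = M ^ 4 := D.mx_pow g' 4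
  set T := normM U 4 with hT
  have hTU : U * T = T := mul_normM_self hU4
  have cMT : Commute M T := by
    rw [hT, hUM]
    exact Commute.sum_right _ _ _ fun i _ => ((Commute.refl M).pow_right 3).pow_right i
  have key : normM M (3 * 4) = normM S 3 * T := by
    have e1 : M ^ 4 * T = M * T := by
      rw [pow_succ' M 3, mul_assoc, ← hUM, hTU]
    have e2 : M ^ 8 * T = M ^ 2 * T := by
      rw [show 8 = 2 + 3 * 2 from rfl, pow_add, mul_assoc, pow_mul, ← hUM, absorb hTU]
    have cT : Commute T (normM M 3) := Commute.sum_right _ _ _ fun i _ => cMT.symm.pow_right i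
    rw [normM_mul, ← hUM, ← hT, cT.eq,
      normM_three, normM_three, hSM, ← pow_mul, show 4 * 2 = 8 from rfl, add_mul, add_mul, add_mul, add_mul,
      e1, e2]
  rw [show (12 : ℕ) = 3 * 4 from rfl, key]
  by_cases hE0 : normM S 3 = 0
  · rw [hE0, zero_mul]
  have hs1 : g' ^ 4 ≠ 1 := pow_ne_one_of_lt_orderOf (by norm_num) (by rw [ho]; norm_num)
  obtain ⟨k, hk, ⟨F⟩⟩ := D.three_frame hX hy (by rw [← pow_mul, hg12]) hE0 hs1
  set E := normM S 3 with hE
  have cUS : Commute U S := by rw [hUM, hSM]; exact (Commute.refl M).pow_pow 3 4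
  have cUE : Commute U E := Commute.sum_right _ _ _ fun i _ => cUS.pow_right i
  have cSE : Commute S E := commute_normM S 3
  set N : Matrix I8 I8 K := 1 + U with hN
  have hN2 : N * N = 1 + U ^ 2 := sq_one_add U
  have hN3 : N * (N * N) = T := cube_one_add U
  have hN4 : N * (N * (N * N)) = 0 := by
    rw [hN3, hN, add_mul, one_mul, hTU, mat_two]
  have cNE : Commute N E := (Commute.one_left E).add_left cUE
  set n := N.mulVecLin with hn
  have h4 : ∀ v, n (n (n (n v))) = 0 := fun v => by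
    simp only [hn, mulVecLin_apply, mulVec_mulVec, hN4, zero_mulVec]
  have hn2 : ∀ v, n (n v) = (1 + U ^ 2) *ᵥ v := fun v => by
    simp only [hn, mulVecLin_apply, mulVec_mulVec, hN2]
  have hn3 : ∀ v, n (n (n v)) = T *ᵥ v := fun v => by
    simp only [hn, mulVecLin_apply, mulVec_mulVec, hN3]
  have invF : ∀ v ∈ fixW E, n v ∈ fixW E := fun v hv => fixW_inv cNE hv
  have done_of : (∀ v ∈ fixW E, n (n (n v)) = 0) → E * T = 0 := by
    intro hz
    have cTE : Commute T E := Commute.sum_left _ _ _ fun i _ => cUE.pow_left i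
    refine Matrix.ext_of_mulVec_single fun i => ?_
    rw [← cTE.eq, ← mulVec_mulVec, ← hn3, hz _ (F.split _).1, zero_mulVec]
  rcases hk with rfl | rfl
  · exact done_of fun v hv => cube_zero invF h4 ((F.finrank_fix.trans supp_cards.1.le).trans (by norm_num)) hv
  refine done_of ?_
  by_contra hnot
  push Not at hnot
  obtain ⟨x, hx, hx3⟩ := hnot
  have hker : ∀ v ∈ kerW E, n (n v) = 0 := fun v hv =>
    square_zero (d := S.mulVecLin) (fun w hw => kerW_inv cNE hw) (fun w hw => kerW_inv cSE hw) h4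
      (fun w => by
        simp only [hn, mulVecLin_apply, mulVec_mulVec]
        rw [((Commute.one_left S).add_left cUS).eq])
      (fun w hw => by
        have := mem_kerW.1 hw
        rw [hE, normM_three, add_mulVec, add_mulVec, one_mulVec, pow_two, ← mulVec_mulVec] at this
        simp only [mulVecLin_apply]
        linear_combination (norm := module) this)
      D.gen.no_root (F.finrank_ker.trans supp_cards.2.2.le) hv
  have hall : ∀ v, ∃ a b : K, n (n v) = a • n (n x) + b • n (n (n x)) ∧ n (n (n v)) = a • n (n (n x)) := by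
    intro v
    obtain ⟨a, b, e1, e2⟩ := chain_span invF h4 (F.finrank_fix.trans supp_cards.2.1.le) hx hx3 (F.split v).1
    have e3 : n (n (v - E *ᵥ v)) = 0 := hker _ (F.split v).2
    have e4 : n (n v) = n (n (E *ᵥ v)) := by
      rw [map_sub, map_sub, sub_eq_zero] at e3
      exact e3
    exact ⟨a, b, e4.trans e1, (congrArg n e4).trans e2⟩
  have hz : D.mx (g' ^ 6) = U ^ 2 := by rw [hU, ← D.mx_pow, ← pow_mul]
  obtain ⟨-, hpol⟩ := D.rank_bound (g' ^ 6) (by rw [← pow_add, hg12])
    (pow_ne_one_of_lt_orderOf (by norm_num) (by rw [ho]; norm_num)) (m := 2) le_rfl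
    ![n (n x), n (n (n x))] fun v => by
      obtain ⟨a, b, e1, -⟩ := hall v
      refine ⟨![a, b], ?_⟩
      rw [hz, add_comm, ← hn2, e1, Fin.sum_univ_two]
      simp
  set B := QuadraticMap.polar (qPlus 4 K) with hB
  have Bc : ∀ a b, B a b = B b a := fun a b => QuadraticMap.polar_comm _ a b
  have Bl : ∀ a b c, B (a + b) c = B a c + B b c := fun a b c => QuadraticMap.polar_add_left _ a b c
  have Br : ∀ a b c, B a (b + c) = B a b + B a c := fun a b c => QuadraticMap.polar_add_right _ a b c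
  have Bs : ∀ (t : K) a b, B (t • a) b = t * B a b := fun t a b => by
    rw [hB, QuadraticMap.polar_smul_left, smul_eq_mul]
  have Bxx : ∀ v, B v v = 0 := fun v => by
    rw [hB, QuadraticMap.polar_self, two_smul, CharTwo.add_self_eq_zero]
  have hU3 : ∀ v, B ((U ^ 3) *ᵥ v) v = B (U *ᵥ v) v := fun v => by
    have e := D.polar_iso (g' ^ 3) ((U ^ 3) *ᵥ v) v
    rw [← hU, mulVec_mulVec, ← pow_succ', hU4, one_mulVec, QuadraticMap.polar_comm] at e
    exact e.symm
  have h0 : ∀ v, B (n (n (n v))) v = 0 := fun v => by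
    rw [hn3, hT, normM_four, add_mulVec, add_mulVec, add_mulVec, one_mulVec, Bl, Bl, Bl, Bxx, ← hz, hpol v,
      hU3, zero_add, add_zero, CharTwo.add_self_eq_zero]
  refine hx3 (rank_one_zero B Br Bl Bs (fun w hw => polarNondeg_qPlus 4 w hw) (n.comp (n.comp n)) x
    (fun v => ?_) h0)
  obtain ⟨a, b, -, e2⟩ := hall v
  exact ⟨a, e2⟩

theorem divisor_cases : ∀ a : Fin 13, ∀ b : Fin 5, ∀ c : Fin 3, ∀ d : Fin 2,
    let n := 2 ^ a.val * (3 ^ b.val * (7 ^ c.val * 13 ^ d.val))
    n ∈ [1, 2, 3, 4, 6, 7] ∨ ∃ m ∈ [8, 9, 12, 13, 14, 21, 49], m ∣ n := by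
  decide +kernel

/-- The orders of the elements with a nonzero sum of powers. -/
theorem Model.key {g : ↥(G3 K)} (hg : normM (D.mx g) (orderOf g) ≠ 0) :
    orderOf g ∈ [1, 2, 3, 4, 6, 7] := by
  have bad : ∀ m ∈ [8, 9, 12, 13, 14, 21, 49], ∀ {h : ↥(G3 K)}, orderOf h = m →
      normM (D.mx h) m = 0 := by
    intro m hm h ho
    simp only [List.mem_cons, List.not_mem_nil, or_false] at hm
    rcases hm with rfl | rfl | rfl | rfl | rfl | rfl | rfl
    exacts [D.case_eight ho, D.case_nine ho, D.case_twelve ho, D.case_thirteen ho, D.case_fourteen ho,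
      D.case_twentyone ho, (D.case_fortynine ho).elim]
  have hd : orderOf g ∣ 2 ^ 12 * (3 ^ 4 * (7 ^ 2 * 13 ^ 1)) := by
    have := orderOf_dvd_natCard g
    rw [D.card] at this
    convert this using 1
    norm_num
  obtain ⟨k1, r1, h1, h1', e1⟩ := Nat.dvd_mul.1 hd
  obtain ⟨k2, r2, h2, h2', e2⟩ := Nat.dvd_mul.1 h1'
  obtain ⟨k3, k4, h3, h4, e3⟩ := Nat.dvd_mul.1 h2'
  obtain ⟨a, ha, rfl⟩ := (Nat.dvd_prime_pow Nat.prime_two).1 h1
  obtain ⟨b, hb, rfl⟩ := (Nat.dvd_prime_pow Nat.prime_three).1 h2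
  obtain ⟨c, hc, rfl⟩ := (Nat.dvd_prime_pow (show Nat.Prime 7 by norm_num)).1 h3
  obtain ⟨d, hd', rfl⟩ := (Nat.dvd_prime_pow (show Nat.Prime 13 by norm_num)).1 h4
  have e : orderOf g = 2 ^ a * (3 ^ b * (7 ^ c * 13 ^ d)) := by rw [← e1, ← e2, ← e3]
  rcases divisor_cases ⟨a, by omega⟩ ⟨b, by omega⟩ ⟨c, by omega⟩ ⟨d, by omega⟩ with h | ⟨m, hm, q, hq⟩
  · rw [e]; exact h
  · exfalso
    simp only at hq
    rw [← e] at hq
    have hpos := orderOf_pos g
    have hq0 : q ≠ 0 := fun h0 => by rw [hq, h0, mul_zero] at hpos; omega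
    have ho : orderOf (g ^ q) = m := by
      rw [orderOf_pow_of_dvd hq0 (Dvd.intro_left _ hq.symm), hq, Nat.mul_div_cancel _ (Nat.pos_of_ne_zero hq0)]
    refine hg ?_
    rw [hq, mul_comm, normM_mul, ← D.mx_pow, bad m hm ho, zero_mul]

/-- The action on the module, written multiplicatively. -/
def vecAut : GL I8 K →* MulAut (Multiplicative (I8 → K)) where
  toFun M :=
    { toFun := fun v => Multiplicative.ofAdd ((M : Matrix I8 I8 K) *ᵥ v.toAdd)
      invFun := fun v => Multiplicative.ofAdd (((M⁻¹ : GL I8 K) : Matrix I8 I8 K) *ᵥ v.toAdd)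
      left_inv := fun v => by simp [mulVec_mulVec]
      right_inv := fun v => by simp [mulVec_mulVec]
      map_mul' := fun v w => by simp [mulVec_add] }
  map_one' := by ext v; simp
  map_mul' M N := by ext v; simp [mulVec_mulVec]

/-- The left coordinate of a power. -/
theorem pow_left (x : Multiplicative (I8 → K) ⋊[vecAut.comp D.Φ] ↥(G3 K)) : ∀ n : ℕ,
    (x ^ n).left = Multiplicative.ofAdd (normM (D.mx x.right) n *ᵥ x.left.toAdd)
  | 0 => by simp [normM]
  | n + 1 => by
    rw [pow_succ, SemidirectProduct.mul_left, pow_left x n]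
    have e : (x ^ n).right = x.right ^ n := map_pow (SemidirectProduct.rightHom) x n
    rw [e]
    have e' : normM (D.mx x.right) (n + 1) = normM (D.mx x.right) n + D.mx (x.right ^ n) := by
      rw [D.mx_pow, normM, Finset.sum_range_succ]
      rfl
    rw [e', add_mulVec]
    rfl

theorem Model.witness (D : Model K) {n : ℕ} (hn : n ∈ [2, 4, 6, 8, 12, 14]) : ∃ g : ↥(G3 K), orderOf g = n := by
  have hw : ∃ w : List ℕ, w.all (· < 8) = true ∧ ordB (wordC w) n = true := by
    have h := witness_ok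
    simp only [List.all_cons, List.all_nil, Bool.and_eq_true, Bool.and_true] at h
    obtain ⟨h2, h4, h6, h8, h12, h14⟩ := h
    simp only [List.mem_cons, List.not_mem_nil, or_false] at hn
    rcases hn with rfl | rfl | rfl | rfl | rfl | rfl
    exacts [⟨_, by decide, h2⟩, ⟨_, by decide, h4⟩, ⟨_, by decide, h6⟩, ⟨_, by decide, h8⟩,
      ⟨_, by decide, h12⟩, ⟨_, by decide, h14⟩]
  obtain ⟨w, hw1, hw2⟩ := hw
  obtain ⟨g, hg⟩ := D.has_word w hw1
  simp only [ordB, Bool.and_eq_true, beq_iff_eq, List.all_eq_true, List.mem_range, Bool.or_eq_true,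
    bne_iff_ne] at hw2
  have hpos : 0 < n := by
    simp only [List.mem_cons, List.not_mem_nil, or_false] at hn
    omega
  refine ⟨g, (orderOf_eq_iff hpos).2 ⟨(D.eq_one_iff (D.has_pow hg n)).2 hw2.1, fun m hm hm0 e => ?_⟩⟩
  rcases hw2.2 m hm with h | h
  · omega
  · exact h ((D.eq_one_iff (D.has_pow hg m)).1 e)

theorem Model.exists_order (x : Multiplicative (I8 → K) ⋊[vecAut.comp D.Φ] ↥(G3 K)) :
    ∃ g : ↥(G3 K), orderOf g = orderOf x := by
  have := D.gen.char
  by_cases h : normM (D.mx x.right) (orderOf x.right) = 0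
  · refine ⟨x.right, ?_⟩
    rw [orderOf_eq_right_mul x, pow_left, h, zero_mulVec, ofAdd_zero, orderOf_one, mul_one]
  by_cases hl : (x ^ orderOf x.right).left = 1
  · refine ⟨x.right, ?_⟩
    rw [orderOf_eq_right_mul x, hl, orderOf_one, mul_one]
  · have : Fact (Nat.Prime 2) := ⟨Nat.prime_two⟩
    have h2 : orderOf (x ^ orderOf x.right).left = 2 := orderOf_eq_prime (by
      rw [pow_two]
      exact Multiplicative.toAdd.injective (funext fun i => CharTwo.add_self_eq_zero _)) hl
    have hk := D.key h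
    obtain ⟨g, hg⟩ := D.witness (n := orderOf x.right * 2) (by
      simp only [List.mem_cons, List.not_mem_nil, or_false] at hk ⊢
      omega)
    exact ⟨g, by rw [hg, orderOf_eq_right_mul x, h2]⟩

/-- Groups of unbounded order with the same element orders. -/
theorem exists_isospectral (hK : Fintype.card K = 8) (N : ℕ) :
    ∃ (H : Type) (_ : Group H) (_ : Fintype H), N < Fintype.card H ∧
      Set.range (orderOf : H → ℕ) = Set.range (orderOf : twistedD4 K 2 → ℕ) := by
  obtain ⟨D⟩ := exists_model hK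
  have := D.gen.char
  haveI : Nontrivial (Multiplicative (I8 → K)) := Multiplicative.toAdd.nontrivial
  obtain ⟨H, hG, hF, ⟨e⟩⟩ := exists_small_equiv
    ((Fin N → Multiplicative (I8 → K)) ⋊[powAct (vecAut.comp D.Φ) N] ↥(G3 K))
  refine ⟨H, hG, hF, ?_, ?_⟩
  · rw [← Nat.card_eq_fintype_card, Nat.card_congr e.toEquiv]
    exact lt_card_pow_semidirect N
  · rw [range_orderOf_congr e]
    refine range_orderOf_pow Nat.prime_two (fun v => ?_) D.exists_order N
    rw [pow_two]
    exact Multiplicative.toAdd.injective (funext fun i => CharTwo.add_self_eq_zero _)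

end CfsgLib.Spectrum.D4Two
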