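import Cfsg.Agent.Lib.Spectrum.D4Two.Checks
import Cfsg.Agent.Lib.Known.D4TwistEvenInvolutions

/-!
The group of type 3D4 over the field with two elements as a group of coded matrices.
-/

set_option autoImplicit false
set_option synthInstance.maxSize 4000
set_option maxRecDepth 20000

namespace CfsgLib.Spectrum.D4Two

open Matrix Cfsg Cfsg.Lie CfsgLib.Classical CfsgLib.Chev CfsgLib.Chev.Ortho

universe v

variable {K : Type v} [Field K] [Fintype K]

local notation "Q8" => qPlus 4 K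

/-- The levels of the coordinates. -/
def lv (i : I8) : ℕ := [0, 1, 2, 3, 6, 5, 4, 3].getD (idx i) 0

theorem lv_lt : ∀ i : I8, lv i < 7 := by decide

theorem lv_root : ∀ r : Fin 24, 12 ≤ r.val →
    lv (rtD.tb r.val).2.1 < lv (Sum.swap (rtD.tb r.val).1) ∧
      lv (rtD.tb r.val).1 < lv (Sum.swap (rtD.tb r.val).2.1) := by
  decide +kernel

/-- The difference to the identity raises the level. -/
def Raise (M : Matrix I8 I8 K) : Prop := ∀ i j, (M - 1) i j ≠ 0 → lv i < lv j

omit [Fintype K] in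
theorem Raise.mul {M N : Matrix I8 I8 K} (hM : Raise M) (hN : Raise N) : Raise (M * N) := by
  intro i j h
  by_contra hl
  refine h ?_
  have z : ∀ {P : Matrix I8 I8 K}, Raise P → ∀ a b, ¬ lv a < lv b → (P - 1) a b = 0 :=
    fun hP a b hab => by_contra fun hne => hab (hP a b hne)
  rw [show M * N - 1 = (M - 1) * (N - 1) + (M - 1) + (N - 1) by noncomm_ring, Matrix.add_apply,
    Matrix.add_apply, z hM i j hl, z hN i j hl, Matrix.mul_apply, Finset.sum_eq_zero fun k _ => ?_,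
    add_zero, add_zero]
  by_cases hik : lv i < lv k
  · rw [z hN k j (by omega), mul_zero]
  · rw [z hM i k hik, zero_mul]

omit [Fintype K] in
theorem raise_one : Raise (1 : Matrix I8 I8 K) := fun i j h => absurd (by simp) h

omit [Fintype K] in
theorem Raise.pow_seven {M : Matrix I8 I8 K} (hM : Raise M) : (M - 1) ^ 7 = 0 := by
  have h : ∀ k i j, ((M - 1) ^ k) i j ≠ 0 → lv i + k ≤ lv j := by
    intro k
    induction k with
    | zero =>
      intro i j h
      rw [pow_zero, Matrix.one_apply] at h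
      by_cases e : i = j
      · simp [e]
      · simp [e] at h
    | succ k ih =>
      intro i j h
      rw [pow_succ, Matrix.mul_apply] at h
      obtain ⟨l, -, hl⟩ := Finset.exists_ne_zero_of_sum_ne_zero h
      have h1 := ih i l (left_ne_zero_of_mul hl)
      have h2 := hM l j (right_ne_zero_of_mul hl)
      omega
  ext i j
  rw [Matrix.zero_apply]
  by_contra hne
  have := h 7 i j hne
  have := lv_lt j
  omega

variable {α : K}

omit [Fintype K] in
theorem Gen.raise_rho (h : Gen α) {r : ℕ} (hr : r < 24) (h12 : 12 ≤ r) (t : K) :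
    Raise (((rho rtD Q8 r t : isometryGroup K ⇑Q8) : GL I8 K) : Matrix I8 I8 K) := by
  intro i j hne
  obtain ⟨l1, l2⟩ := lv_root ⟨r, hr⟩ h12
  simp only at l1 l2
  have e : (((rho rtD Q8 r t : isometryGroup K ⇑Q8) : GL I8 K) : Matrix I8 I8 K) i j =
      isoApply (rho rtD Q8 r t) (bv K j) i := by
    rw [isoApply, bv, mulVec_single_one]; rfl
  rw [Matrix.sub_apply, e, h.rho_apply hr, Matrix.one_apply] at hne
  by_contra hl
  refine hne ?_
  have n1 : ¬ (i = (rtD.tb r).2.1 ∧ Sum.swap (rtD.tb r).1 = j) := fun ⟨a, b⟩ => hl (by rw [a, ← b]; exact l1)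
  have n2 : ¬ (i = (rtD.tb r).1 ∧ Sum.swap (rtD.tb r).2.1 = j) := fun ⟨a, b⟩ => hl (by rw [a, ← b]; exact l2)
  simp only [Pi.add_apply, Pi.smul_apply, smul_eq_mul, bv, Pi.single_apply, mul_assoc, ite_mul, one_mul, zero_mul,
    mul_ite, mul_one, mul_zero, ← ite_and, and_comm (b := i = _)]
  rw [if_neg n1, if_neg n2]
  simp

/-- The twisted group. -/
abbrev G3 (K : Type v) [Field K] : Subgroup (GL chevD4.Idx K) := twistedD4 K 2

/-- The data of the representation. -/
structure Model (K : Type v) [Field K] [Fintype K] where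
  C : TwD4.Ctx K 2
  α : K
  gen : Gen α
  Φ : ↥(G3 K) →* GL I8 K
  inj : Function.Injective Φ
  iso : ∀ g, Φ g ∈ isometryGroup K ⇑(qPlus 4 K)
  gens : ∀ i < 8, ∃ g, Enc α ((Φ g : GL I8 K) : Matrix I8 I8 K) (genC i)
  raise : ∀ g : ↥(G3 K), (g : GL chevD4.Idx K) ∈ rootClosure chevD4 K (12 ≤ ·) →
    Raise ((Φ g : GL I8 K) : Matrix I8 I8 K)
  long : ∀ g : ↥(G3 K), (haveI := gen.char; (g : GL chevD4.Idx K) = D4Invol.repL C) →
    Enc α ((Φ g : GL I8 K) : Matrix I8 I8 K) longC ∧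
      ∀ x, QuadraticMap.polar (qPlus 4 K) (((Φ g : GL I8 K) : Matrix I8 I8 K) *ᵥ x) x = 0
  short : ∀ g : ↥(G3 K), (haveI := gen.char; (g : GL chevD4.Idx K) = D4Invol.repS C) →
    Enc α ((Φ g : GL I8 K) : Matrix I8 I8 K) shortC

omit [Fintype K] in
theorem Gen.enc_rho' (h : Gen α) {r : ℕ} (hr : r < 24) (e : ℕ) {t : K} (ht : t = α ^ e) :
    Enc α (((rho rtD Q8 r t : isometryGroup K ⇑Q8) : GL I8 K) : Matrix I8 I8 K) (rootC r (e % 7)) :=
  ht ▸ h.enc_rho hr e

theorem exists_model (hK : Fintype.card K = 8) : Nonempty (Model K) := by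
  obtain ⟨α, hα⟩ := exists_gen (K := K) (by rw [Nat.card_eq_fintype_card, hK])
  have := hα.char
  obtain ⟨C⟩ := TwD4.nonempty_ctx (K := K) (q := 2) Nat.prime_two.isPrimePow (by rw [hK]; norm_num)
  obtain ⟨ψ, hψ⟩ := exists_nat (K := K)
  have hF := DataD4.facts
  have hn : ∀ {r : ℕ}, r < 24 → r < chevD4.nroots := fun hr => D4Invol.lt24 hr
  have hle : G3 K ≤ chevD4.group K := fun g hg => (C.sys.le_fix hg).1
  set Φ : ↥(G3 K) →* GL I8 K :=
    (isometryGroup K ⇑Q8).subtype.comp (ψ.comp (Subgroup.inclusion hle)) with hΦ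
  have hΦ3 : ∀ (g : ↥(G3 K)) (r s u : ℕ) (a b c : K), r < 24 → s < 24 → u < 24 →
      (g : GL chevD4.Idx K) = xU chevD4 r a * (xU chevD4 s b * xU chevD4 u c) →
      Φ g = (rho rtD Q8 r a * (rho rtD Q8 s b * rho rtD Q8 u c) : isometryGroup K ⇑Q8) := by
    intro g r s u a b c hr hs hu hg
    show ((ψ (Subgroup.inclusion hle g) : isometryGroup K ⇑Q8) : GL I8 K) = _
    rw [← hψ r a (hn hr) (hF.xU_mem_group (hn hr) a), ← hψ s b (hn hs) (hF.xU_mem_group (hn hs) b),
      ← hψ u c (hn hu) (hF.xU_mem_group (hn hu) c), ← map_mul, ← map_mul]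
    exact congrArg Subtype.val (congrArg ψ (Subtype.ext hg))
  have hΦ1 : ∀ (g : ↥(G3 K)) (r : ℕ) (a : K), r < 24 → (g : GL chevD4.Idx K) = xU chevD4 r a →
      Φ g = (rho rtD Q8 r a : isometryGroup K ⇑Q8) := by
    intro g r a hr hg
    show ((ψ (Subgroup.inclusion hle g) : isometryGroup K ⇑Q8) : GL I8 K) = _
    rw [← hψ r a (hn hr) (hF.xU_mem_group (hn hr) a)]
    exact congrArg Subtype.val (congrArg ψ (Subtype.ext hg))
  have enc3 : ∀ (g : ↥(G3 K)) (r s u : ℕ) (e f d : ℕ), r < 24 → s < 24 → u < 24 →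
      (g : GL chevD4.Idx K) = xU chevD4 r (α ^ e) * (xU chevD4 s (α ^ f) * xU chevD4 u (α ^ d)) →
      Enc α ((Φ g : GL I8 K) : Matrix I8 I8 K)
        (mulC (rootC r (e % 7)) (mulC (rootC s (f % 7)) (rootC u (d % 7)))) := by
    intro g r s u e f d hr hs hu hg
    rw [hΦ3 g r s u _ _ _ hr hs hu hg, Subgroup.coe_mul, Subgroup.coe_mul, Units.val_mul, Units.val_mul]
    exact hα.enc_mul (hα.enc_rho hr e) (hα.enc_mul (hα.enc_rho hs f) (hα.enc_rho hu d))
  have enc1 : ∀ (g : ↥(G3 K)) (r : ℕ), r < 24 → (g : GL chevD4.Idx K) = xU chevD4 r 1 →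
      Enc α ((Φ g : GL I8 K) : Matrix I8 I8 K) (rootC r 0) := fun g r hr hg => by
    rw [hΦ1 g r 1 hr hg]
    exact hα.enc_rho' hr 0 (pow_zero α).symm
  have one2 : (1 : K) ^ 2 = 1 := one_pow 2
  have single : ∀ r ∈ [d4p2, d4m2], xU chevD4 r (1 : K) ∈ G3 K := fun r hr => by
    simpa [wU] using C.mem_gen (w := [(r, (1 : K))]) (Or.inl ⟨1, one2, r, hr, rfl⟩)
  have triple : ∀ rs ∈ [(d4p1, d4p3, d4p4), (d4m1, d4m3, d4m4)], ∀ t : K,
      xU chevD4 rs.1 t * (xU chevD4 rs.2.1 (t ^ 2) * xU chevD4 rs.2.2 (t ^ 2 ^ 2)) ∈ G3 K :=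
    fun rs hrs t => by
      simpa [wU] using C.mem_gen (w := [(rs.1, t), (rs.2.1, t ^ 2), (rs.2.2, t ^ 2 ^ 2)])
        (Or.inr ⟨t, rs, hrs, rfl⟩)
  have hsimple : IsSimpleGroup ↥(G3 K) := C.simple_twisted.1
  refine ⟨⟨C, α, hα, Φ, ?_, fun g => (ψ (Subgroup.inclusion hle g)).2, ?_, ?_, ?_, ?_⟩⟩
  · rcases Φ.normal_ker.eq_bot_or_eq_top with h | h
    · exact (MonoidHom.ker_eq_bot_iff _).1 h
    · exfalso
      set g : ↥(G3 K) := ⟨_, single d4p2 (by simp)⟩
      have h1 : Φ g = 1 := MonoidHom.mem_ker.1 (h ▸ Subgroup.mem_top _)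
      have e := enc1 g 14 (by norm_num) rfl
      rw [h1, Units.val_one] at e
      exact absurd (hα.code_inj e enc_one) (by decide +kernel)
  · intro i hi
    interval_cases i
    · exact ⟨⟨_, single d4p2 (by simp)⟩, enc1 _ 14 (by norm_num) rfl⟩
    · exact ⟨⟨_, single d4m2 (by simp)⟩, enc1 _ 9 (by norm_num) rfl⟩
    · exact ⟨⟨_, triple (d4p1, d4p3, d4p4) (by simp) (α ^ 0)⟩,
        enc3 _ 18 13 12 0 0 0 (by norm_num) (by norm_num) (by norm_num) (by simp [d4p1, d4p3, d4p4])⟩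
    · exact ⟨⟨_, triple (d4p1, d4p3, d4p4) (by simp) (α ^ 1)⟩,
        enc3 _ 18 13 12 1 2 4 (by norm_num) (by norm_num) (by norm_num) (by simp [d4p1, d4p3, d4p4])⟩
    · exact ⟨⟨_, triple (d4p1, d4p3, d4p4) (by simp) (α ^ 2)⟩,
        enc3 _ 18 13 12 2 4 8 (by norm_num) (by norm_num) (by norm_num)
          (by simp [d4p1, d4p3, d4p4, ← pow_mul])⟩
    · exact ⟨⟨_, triple (d4m1, d4m3, d4m4) (by simp) (α ^ 0)⟩,
        enc3 _ 5 10 11 0 0 0 (by norm_num) (by norm_num) (by norm_num) (by simp [d4m1, d4m3, d4m4])⟩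
    · exact ⟨⟨_, triple (d4m1, d4m3, d4m4) (by simp) (α ^ 1)⟩,
        enc3 _ 5 10 11 1 2 4 (by norm_num) (by norm_num) (by norm_num) (by simp [d4m1, d4m3, d4m4])⟩
    · exact ⟨⟨_, triple (d4m1, d4m3, d4m4) (by simp) (α ^ 2)⟩,
        enc3 _ 5 10 11 2 4 8 (by norm_num) (by norm_num) (by norm_num)
          (by simp [d4m1, d4m3, d4m4, ← pow_mul])⟩
  · rintro ⟨g, hgG⟩ hg
    have hg' : g ∈ (rootClosure chevD4 K (12 ≤ ·)).toSubmonoid := hg
    rw [rootClosure, Subgroup.closure_toSubmonoid_of_finite] at hg'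
    have key : ∃ h : g ∈ chevD4.group K, Raise (((ψ ⟨g, h⟩ : isometryGroup K ⇑Q8) : GL I8 K) : Matrix I8 I8 K) := by
      clear hg hgG
      induction hg' using Submonoid.closure_induction with
      | mem x hx =>
        obtain ⟨r, t, hr, h12, rfl⟩ := hx
        refine ⟨hF.xU_mem_group hr t, ?_⟩
        rw [hψ r t hr]
        exact hα.raise_rho (by rwa [TwD4.tables.1] at hr) h12 t
      | one =>
        refine ⟨Subgroup.one_mem _, ?_⟩
        rw [show (⟨1, Subgroup.one_mem _⟩ : ↥(chevD4.group K)) = 1 from rfl, map_one, Subgroup.coe_one,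
          Units.val_one]
        exact raise_one
      | mul x y _ _ ihx ihy =>
        obtain ⟨h1, r1⟩ := ihx
        obtain ⟨h2, r2⟩ := ihy
        refine ⟨Subgroup.mul_mem _ h1 h2, ?_⟩
        rw [show (⟨x * y, Subgroup.mul_mem _ h1 h2⟩ : ↥(chevD4.group K)) = ⟨x, h1⟩ * ⟨y, h2⟩ from rfl,
          map_mul, Subgroup.coe_mul, Units.val_mul]
        exact r1.mul r2
    exact key.2
  · intro g hg
    have e : (g : GL chevD4.Idx K) = xU chevD4 23 (1 : K) := by
      rw [hg, D4Invol.repL, D4Invol.Qt, D4Invol.Qw]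
      simp only [map_zero, map_one, D4Invol.kill (show 14 < 24 by norm_num),
        D4Invol.kill (show 18 < 24 by norm_num), D4Invol.kill (show 13 < 24 by norm_num),
        D4Invol.kill (show 12 < 24 by norm_num), D4Invol.kill (show 19 < 24 by norm_num),
        D4Invol.kill (show 16 < 24 by norm_num), D4Invol.kill (show 15 < 24 by norm_num),
        D4Invol.kill (show 20 < 24 by norm_num), D4Invol.kill (show 21 < 24 by norm_num),
        D4Invol.kill (show 17 < 24 by norm_num), D4Invol.kill (show 22 < 24 by norm_num), mul_one]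
    refine ⟨enc1 g 23 (by norm_num) e, fun x => ?_⟩
    rw [hΦ1 g 23 1 (by norm_num) e]
    show QuadraticMap.polar Q8 (isoApply (rho rtD Q8 23 (1 : K)) x) x = 0
    rw [hα.rho_apply (by norm_num), QuadraticMap.polar_comm, QuadraticMap.polar_add_right,
      QuadraticMap.polar_add_right, QuadraticMap.polar_smul_right, QuadraticMap.polar_smul_right,
      polar_coord' real_D split_D _ (by decide +kernel), polar_coord' real_D split_D _ (by decide +kernel),
      QuadraticMap.polar_self]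
    simp only [one_mul, smul_eq_mul, two_smul, CharTwo.add_self_eq_zero, zero_add]
    rw [mul_comm, CharTwo.add_self_eq_zero]
  · intro g hg
    have e : (g : GL chevD4.Idx K) =
        xU chevD4 20 (α ^ 0) * (xU chevD4 21 (α ^ 0) * xU chevD4 17 (α ^ 0)) := by
      rw [hg, D4Invol.repS, D4Invol.Qt, D4Invol.Qw]
      simp only [map_zero, map_one, pow_zero, D4Invol.kill (show 14 < 24 by norm_num),
        D4Invol.kill (show 18 < 24 by norm_num), D4Invol.kill (show 13 < 24 by norm_num),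
        D4Invol.kill (show 12 < 24 by norm_num), D4Invol.kill (show 19 < 24 by norm_num),
        D4Invol.kill (show 16 < 24 by norm_num), D4Invol.kill (show 15 < 24 by norm_num),
        D4Invol.kill (show 22 < 24 by norm_num), D4Invol.kill (show 23 < 24 by norm_num), mul_one]
    exact enc3 g 20 21 17 0 0 0 (by norm_num) (by norm_num) (by norm_num) e

end CfsgLib.Spectrum.D4Two
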