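import Cfsg.Agent.Lib.Spectrum.D4Two.Model

/-!
Sums of powers of coded elements and the listed Sylow subgroups of the group of type 3D4 over the
field with two elements.
-/

set_option autoImplicit false
set_option synthInstance.maxSize 4000
set_option maxRecDepth 20000

namespace CfsgLib.Spectrum.D4Two

open Matrix Cfsg Cfsg.Lie CfsgLib.Classical CfsgLib.Chev CfsgLib.Chev.Ortho

universe u v

section Ring

variable {K : Type v} [Field K]

theorem normM_mul (M : Matrix I8 I8 K) (a : ℕ) : ∀ b : ℕ,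
    normM M (a * b) = normM (M ^ a) b * normM M a
  | 0 => by simp [normM]
  | b + 1 => by
    have e : normM M (a * b + a) = normM M (a * b) + M ^ (a * b) * normM M a := by
      simp only [normM, Finset.sum_range_add, Finset.mul_sum, pow_add]
    rw [Nat.mul_succ, e, normM_mul M a b]
    conv_rhs => rw [normM, Finset.sum_range_succ]
    rw [add_mul, ← pow_mul]
    rfl

theorem commute_normM (M : Matrix I8 I8 K) (n : ℕ) : Commute M (normM M n) :=
  Commute.sum_right _ _ _ fun i _ => (Commute.refl M).pow_right i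

theorem mul_normM_self {M : Matrix I8 I8 K} {n : ℕ} (h : M ^ n = 1) : M * normM M n = normM M n := by
  have h1 : normM M (n + 1) = 1 + M * normM M n := by
    rw [normM, normM, Finset.sum_range_succ', Finset.mul_sum, add_comm]
    simp [pow_succ']
  have h2 : normM M (n + 1) = normM M n + 1 := by
    rw [normM, Finset.sum_range_succ, h]
    rfl
  rw [h2, add_comm] at h1
  exact (add_left_cancel h1).symm

theorem absorb {A X : Matrix I8 I8 K} (h : A * X = X) : ∀ k : ℕ, A ^ k * X = X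
  | 0 => by simp
  | k + 1 => by rw [pow_succ, mul_assoc, h, absorb h k]

theorem normM_conj (P : (Matrix I8 I8 K)ˣ) (M : Matrix I8 I8 K) (n : ℕ) :
    normM ((P : Matrix I8 I8 K) * M * (↑P⁻¹ : Matrix I8 I8 K)) n =
      (P : Matrix I8 I8 K) * normM M n * (↑P⁻¹ : Matrix I8 I8 K) := by
  simp only [normM, Finset.mul_sum, Finset.sum_mul]
  exact Finset.sum_congr rfl fun i _ => (P.conj_pow M i).trans rfl

end Ring

/-- An element of prime power order is conjugate into a subgroup of full prime power order. -/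
theorem conj_into {G : Type u} [Group G] [Finite G] {p a b : ℕ} (hp : p.Prime) (Q : Subgroup G)
    (hQ : Nat.card Q = p ^ a) (hG : ¬ p ^ (a + 1) ∣ Nat.card G) {g : G} (hg : g ^ p ^ b = 1) :
    ∃ y : G, y * g * y⁻¹ ∈ Q := by
  haveI := Fact.mk hp
  have hidx : ¬ p ∣ Q.index := fun h => hG (by
    rw [← Q.card_mul_index, hQ, pow_succ]
    exact Nat.mul_dvd_mul_left _ h)
  let S : Sylow p G := (IsPGroup.of_card hQ).toSylow hidx
  have hz : IsPGroup p (Subgroup.zpowers g) := by
    obtain ⟨k, -, hk⟩ := (Nat.dvd_prime_pow hp).1 (orderOf_dvd_of_pow_eq_one hg)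
    exact IsPGroup.of_card (n := k) (by rw [Nat.card_zpowers, hk])
  obtain ⟨P, hP⟩ := hz.exists_le_sylow
  obtain ⟨y, hy⟩ := MulAction.exists_smul_eq G P S
  refine ⟨y, ?_⟩
  have h1 : MulAut.conj y g ∈ (S : Subgroup G) := by
    rw [← hy, Sylow.coe_subgroup_smul]
    exact ⟨g, hP (Subgroup.mem_zpowers _), rfl⟩
  exact h1

variable {K : Type v} [Field K] [Fintype K] (D : Model K)

/-- The matrix of an element. -/
def Model.mx (g : ↥(G3 K)) : Matrix I8 I8 K := ((D.Φ g : GL I8 K) : Matrix I8 I8 K)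

/-- An element has a code. -/
def Model.Has (g : ↥(G3 K)) (X : List ℕ) : Prop := Enc D.α (D.mx g) X

theorem Model.mx_one : D.mx 1 = 1 := by simp [Model.mx]

theorem Model.mx_mul (g h : ↥(G3 K)) : D.mx (g * h) = D.mx g * D.mx h := by simp [Model.mx]

theorem Model.mx_pow (g : ↥(G3 K)) (n : ℕ) : D.mx (g ^ n) = D.mx g ^ n := by simp [Model.mx]

theorem Model.mx_inj {g h : ↥(G3 K)} (e : D.mx g = D.mx h) : g = h := D.inj (Units.ext e)

theorem Model.has_mul {g h : ↥(G3 K)} {X Y : List ℕ} (hg : D.Has g X) (hh : D.Has h Y) :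
    D.Has (g * h) (mulC X Y) := by
  rw [Model.Has, D.mx_mul]
  exact D.gen.enc_mul hg hh

theorem Model.has_one : D.Has 1 oneC := by rw [Model.Has, D.mx_one]; exact enc_one

theorem Model.has_pow {g : ↥(G3 K)} {X : List ℕ} (hg : D.Has g X) (n : ℕ) :
    D.Has (g ^ n) (powC X n) := by
  rw [Model.Has, D.mx_pow]
  exact D.gen.enc_pow hg n

theorem Model.eq_one_iff {g : ↥(G3 K)} {X : List ℕ} (hg : D.Has g X) : g = 1 ↔ X = oneC :=
  ⟨fun e => D.gen.code_inj hg (e ▸ D.has_one),
    fun e => D.mx_inj (D.gen.enc_inj (e ▸ hg) D.has_one)⟩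

theorem Model.normM_zero {g : ↥(G3 K)} {X : List ℕ} (hg : D.Has g X) {n : ℕ}
    (h : normC X n = zeroC) : normM (D.mx g) n = 0 :=
  D.gen.enc_inj (h ▸ D.gen.enc_norm hg n) enc_zero

theorem Model.normM_conj_iff (y g : ↥(G3 K)) (n : ℕ) :
    normM (D.mx (y * g * y⁻¹)) n = 0 ↔ normM (D.mx g) n = 0 := by
  have e : D.mx (y * g * y⁻¹) =
      (D.Φ y : Matrix I8 I8 K) * D.mx g * (↑(D.Φ y)⁻¹ : Matrix I8 I8 K) := by
    simp [Model.mx]
  rw [e, normM_conj, Units.mul_left_eq_zero, Units.mul_right_eq_zero]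

theorem Model.has_word : ∀ w : List ℕ, w.all (· < 8) = true → ∃ g, D.Has g (wordC w)
  | [], _ => ⟨1, D.has_one⟩
  | i :: w, h => by
    rw [List.all_cons, Bool.and_eq_true] at h
    obtain ⟨g, hg⟩ := D.gens i (by simpa using h.1)
    obtain ⟨k, hk⟩ := Model.has_word w h.2
    exact ⟨g * k, D.has_mul hg hk⟩

theorem Model.card (D : Model K) : Nat.card ↥(G3 K) = 2 ^ 12 * 3 ^ 4 * 7 ^ 2 * 13 := by
  rw [G3, D.C.card_twisted]
  norm_num

/-- A listed subgroup. -/
theorem Model.exists_listed {wa wb : List ℕ} {L : List (List ℕ)} {pr : List (Bool × ℕ)}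
    (ha : wa.all (· < 8) = true) (hb : wb.all (· < 8) = true)
    (h : listB (wordC wa) (wordC wb) L pr = true) :
    ∃ Q : Subgroup ↥(G3 K), Nat.card Q = L.length ∧ ∀ g ∈ Q, ∃ X ∈ L, D.Has g X := by
  obtain ⟨a, hga⟩ := D.has_word wa ha
  obtain ⟨b, hgb⟩ := D.has_word wb hb
  simp only [listB, Bool.and_eq_true, decide_eq_true_eq, beq_iff_eq, List.all_eq_true,
    List.contains_iff_mem, List.mem_range] at h
  obtain ⟨⟨⟨⟨hnd, h0⟩, hlen⟩, hcl⟩, hpr⟩ := h
  have h0m : oneC ∈ L := by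
    rw [← h0, List.getD_eq_getElem _ _ (show 0 < L.length by omega)]
    exact List.getElem_mem _
  set Q := Subgroup.closure ({a, b} : Set ↥(G3 K)) with hQ
  have cover : ∀ g ∈ Q, ∃ X ∈ L, D.Has g X := by
    intro g hg
    have hg' : g ∈ Q.toSubmonoid := hg
    rw [hQ, Subgroup.closure_toSubmonoid_of_finite] at hg'
    clear hg
    induction hg' using Submonoid.closure_induction_left with
    | one => exact ⟨oneC, h0m, D.has_one⟩
    | mul_left x hx y hy ih =>
      obtain ⟨Y, hY, hy'⟩ := ih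
      rcases hx with rfl | rfl
      · exact ⟨_, (hcl Y hY).1, D.has_mul hga hy'⟩
      · exact ⟨_, (hcl Y hY).2, D.has_mul hgb hy'⟩
  have reach : ∀ i, i < L.length → ∃ g ∈ Q, D.Has g (L.getD i []) := by
    intro i
    induction i using Nat.strong_induction_on with
    | _ i ih =>
      intro hi
      cases i with
      | zero => exact ⟨1, one_mem _, by rw [h0]; exact D.has_one⟩
      | succ j =>
        obtain ⟨h1, h2⟩ := hpr j (by omega)
        obtain ⟨g, hg, hg'⟩ := ih _ (show (pr.getD j (false, 0)).2 < j + 1 by omega) (by omega)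
        rw [← h2]
        by_cases hb' : (pr.getD j (false, 0)).1 = true
        · rw [if_pos hb']
          exact ⟨b * g, mul_mem (Subgroup.subset_closure (by simp)) hg, D.has_mul hgb hg'⟩
        · rw [if_neg hb']
          exact ⟨a * g, mul_mem (Subgroup.subset_closure (by simp)) hg, D.has_mul hga hg'⟩
  refine ⟨Q, ?_, cover⟩
  choose f hf hfe using fun g : Q => cover g g.2
  let F : Q → {X // X ∈ L.toFinset} := fun g => ⟨f g, List.mem_toFinset.2 (hf g)⟩
  have hF : Function.Bijective F := by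
    refine ⟨fun x y e => Subtype.ext (D.mx_inj (D.gen.enc_inj (hfe x) ?_)), fun X => ?_⟩
    · rw [show f x = f y from congrArg Subtype.val e]
      exact hfe y
    · obtain ⟨i, hi, e⟩ := List.mem_iff_getElem.1 (List.mem_toFinset.1 X.2)
      obtain ⟨g, hg, hg'⟩ := reach i hi
      rw [List.getD_eq_getElem _ _ hi, e] at hg'
      exact ⟨⟨g, hg⟩, Subtype.ext (D.gen.code_inj (hfe ⟨g, hg⟩) hg')⟩
  rw [Nat.card_congr (Equiv.ofBijective F hF), Nat.card_eq_fintype_card, Fintype.card_coe,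
    List.toFinset_card_of_nodup hnd]

theorem Model.conj_list {wa wb : List ℕ} {L : List (List ℕ)} {pr : List (Bool × ℕ)}
    (ha : wa.all (· < 8) = true) (hb : wb.all (· < 8) = true)
    (h : listB (wordC wa) (wordC wb) L pr = true) {p a b : ℕ} (hp : p.Prime) (hl : L.length = p ^ a)
    (hG : ¬ p ^ (a + 1) ∣ Nat.card ↥(G3 K)) {g : ↥(G3 K)} (hg : g ^ p ^ b = 1) :
    ∃ y : ↥(G3 K), ∃ X ∈ L, D.Has (y * g * y⁻¹) X := by
  obtain ⟨Q, hQ, hcov⟩ := D.exists_listed ha hb h
  obtain ⟨y, hy⟩ := conj_into hp Q (hQ.trans hl) hG hg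
  exact ⟨y, hcov _ hy⟩

theorem Model.conj_three {b : ℕ} {g : ↥(G3 K)} (hg : g ^ 3 ^ b = 1) :
    ∃ y : ↥(G3 K), ∃ X ∈ list3, D.Has (y * g * y⁻¹) X :=
  D.conj_list (by decide) (by decide) list3_ok Nat.prime_three (a := 4) (by rw [list_lengths.1]; norm_num)
    (by rw [D.card]; norm_num) hg

theorem Model.conj_seven {b : ℕ} {g : ↥(G3 K)} (hg : g ^ 7 ^ b = 1) :
    ∃ y : ↥(G3 K), ∃ X ∈ list7, D.Has (y * g * y⁻¹) X :=
  D.conj_list (by decide) (by decide) list7_ok (show Nat.Prime 7 by norm_num) (a := 2)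
    (by rw [list_lengths.2.1]; norm_num) (by rw [D.card]; norm_num) hg

theorem Model.conj_thirteen {b : ℕ} {g : ↥(G3 K)} (hg : g ^ 13 ^ b = 1) :
    ∃ y : ↥(G3 K), ∃ X ∈ list13, D.Has (y * g * y⁻¹) X :=
  D.conj_list (by decide) (by decide) list13_ok (show Nat.Prime 13 by norm_num) (a := 1)
    (by rw [list_lengths.2.2]; norm_num) (by rw [D.card]; norm_num) hg

end CfsgLib.Spectrum.D4Two
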