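import Mathlib
import Cfsg.Agent.Lib.Chev.Ortho.D4
import Cfsg.Agent.Lib.Chev.Twist.D4Main
import Cfsg.Agent.Lib.Classical.QuadPOmega
import Cfsg.Agent.Lib.Spectrum.D4Two.Code

/-!
The natural eight-dimensional representation of the group of type 3D4 over the field with two
elements, and the codes of its generators.
-/

set_option autoImplicit false
set_option maxRecDepth 20000

namespace CfsgLib.Spectrum.D4Two

open Matrix Cfsg Cfsg.Lie CfsgLib.Classical CfsgLib.Chev CfsgLib.Chev.Ortho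

universe v

variable {K : Type v} [Field K]

local notation "Q8" => qPlus 4 K

/-- The homomorphism to the isometry group. -/
theorem exists_nat [Fintype K] [CharP K 2] :
    ∃ ψ : ↥(chevD4.group K) →* isometryGroup K ⇑Q8,
      ∀ (r : ℕ) (t : K) (_ : r < chevD4.nroots) (h : xU chevD4 r t ∈ chevD4.group K),
        ψ ⟨xU chevD4 r t, h⟩ = rho rtD Q8 r t := by
  obtain ⟨⟨co, hF⟩, hC⟩ := good_D4.{v}
  obtain ⟨θ, hθ, hker, hval⟩ := hF.exists_surj hC (hasNbr_of_mem (by simp)) (K := K)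
  have hR := real_D (F := K)
  obtain ⟨φ, hφ⟩ := exists_phi (F := K) hR rootB_D hF commAllB_D torusAllB_D
  have hS : spanB fdD rtD chevD4 = true := by decide +kernel
  have hO : oneB chevD4 = true := by decide +kernel
  have hrange : φ.range = Omega K ⇑Q8 := by
    rw [range_eq_eGen hR rootB_D hS hφ]
    exact le_antisymm (eGen_le_commutator_of_one hR rootB_D commAllB_D hO hS hφ)
      (commutator_le_eGen hR split_D PD pD_mono gen_D comm_D)
  have hle : θ.ker ≤ φ.ker := by
    rw [hker]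
    intro z hz
    rw [MonoidHom.mem_ker]
    have hg : (⟨φ z, hrange ▸ ⟨z, rfl⟩⟩ : Omega K ⇑Q8) ∈ Subgroup.center (Omega K ⇑Q8) := by
      rw [Subgroup.mem_center_iff]
      rintro ⟨y, hy⟩
      obtain ⟨x, hx⟩ : y ∈ φ.range := hrange.symm ▸ hy
      refine Subtype.ext ?_
      show y * φ z = φ z * y
      rw [← hx, ← map_mul, ← map_mul, Subgroup.mem_center_iff.1 hz x]
    rcases Omega_central_eq _ (polarNondeg_qPlus 4) (by simp) hg with h | h
    · exact h
    · refine h.trans (iso_ext fun x => ?_)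
      rw [negIso_apply, isoApply_one]
      funext i
      simp [CharTwo.neg_eq]
  refine ⟨(QuotientGroup.lift θ.ker φ hle).comp
    (QuotientGroup.quotientKerEquivOfSurjective θ hθ).symm.toMonoidHom, fun r t hr h => ?_⟩
  have e : (QuotientGroup.quotientKerEquivOfSurjective θ hθ).symm ⟨xU chevD4 r t, h⟩ =
      QuotientGroup.mk (chevD4.stGen K r t) := by
    rw [MulEquiv.symm_apply_eq]
    refine Subtype.ext (Units.ext ?_)
    show ((xU chevD4 r t : GL chevD4.Idx K) : Matrix chevD4.Idx chevD4.Idx K) =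
      ((θ (chevD4.stGen K r t) : GL chevD4.Idx K) : Matrix chevD4.Idx chevD4.Idx K)
    rw [hval r t hr, hF.xU_val hr]
  simp [e, hφ r t hr]

/-- The bits of the powers of the generator. -/
def pw : ℕ → ℕ := fun m => [1, 2, 4, 3, 6, 7, 5].getD (m % 7) 0

/-- The code of a root element with parameter a power of the generator. -/
def rootC (r e : ℕ) : List ℕ :=
  (List.range 24).map fun j =>
    (2 ^ j) ^^^ (if j / 3 = idx (Sum.swap (rtD.tb r).2.1) then pw (e + j % 3) <<< (3 * idx (rtD.tb r).1) else 0) ^^^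
      (if j / 3 = idx (Sum.swap (rtD.tb r).1) then pw (e + j % 3) <<< (3 * idx (rtD.tb r).2.1) else 0)

theorem idx_code : ∀ j : Fin 24, ∀ i : I8, ∀ k : Fin 3,
    (2 ^ j.val).testBit (3 * idx i + k.val) = decide (idx i = j.val / 3 ∧ k.val = j.val % 3) := by
  decide +kernel

theorem shift_code : ∀ p : Fin 8, ∀ a i : I8, ∀ k : Fin 3,
    (p.val <<< (3 * idx a)).testBit (3 * idx i + k.val) = (decide (i = a) && p.val.testBit k.val) := by
  decide +kernel

theorem pw_lt : ∀ m, pw m < 8 := fun m => by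
  have : ∀ n : Fin 7, [1, 2, 4, 3, 6, 7, 5].getD n.val 0 < 8 := by decide
  exact this ⟨m % 7, Nat.mod_lt _ (by norm_num)⟩

theorem rootC_lt : ∀ r : Fin 24, ∀ e : Fin 7, (rootC r.val e.val).all (· < 2 ^ 24) = true := by
  decide +kernel

variable {α : K}

theorem Gen.alpha_ne (h : Gen α) : α ≠ 0 := fun e => one_ne_zero (α := K) (by
  have := h.root
  rw [e] at this
  simpa using this)

theorem Gen.alpha_seven (h : Gen α) : α ^ 7 = 1 := by
  linear_combination (α ^ 4 + α ^ 2 + α + 1) * h.root -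
    (α ^ 5 + α ^ 4 + α ^ 3 + α ^ 2 + α + 1) * h.two

theorem Gen.sc_pw (h : Gen α) (m : ℕ) : sc α (pw m) = α ^ m := by
  have hm : α ^ m = α ^ (m % 7) := by
    conv_lhs => rw [← Nat.mod_add_div m 7, pow_add, pow_mul, h.alpha_seven, one_pow, mul_one]
  rw [hm, pw]
  have h3 := h.root
  have h2 := h.two
  have : m % 7 < 7 := Nat.mod_lt _ (by norm_num)
  interval_cases m % 7 <;> simp [sc, Fin.sum_univ_three, Nat.testBit, Nat.shiftRight_eq_div_pow]
  · linear_combination -h3 + (α + 1) * h2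
  · linear_combination (-α) * h3 + (α ^ 2 + α) * h2
  · linear_combination (-α ^ 2 + 1) * h3 + (α ^ 2 + 0) * h2
  · linear_combination (-α ^ 3 + α + 1) * h3 - α * h2

theorem Gen.dec_shift (h : Gen α) {p : ℕ} (hp : p < 8) (a : I8) :
    dec α (p <<< (3 * idx a)) = sc α p • bv K a := by
  funext i
  simp only [dec, sc, Pi.smul_apply, bv, Pi.single_apply, smul_eq_mul, shift_code ⟨p, hp⟩ a i]
  by_cases hi : i = a <;> simp [hi]

theorem Gen.dec_two_pow (h : Gen α) {j : ℕ} (hj : j < 24) {c : I8} (hc : idx c = j / 3) :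
    dec α (2 ^ j) = α ^ (j % 3) • bv K c := by
  funext i
  simp only [dec, Pi.smul_apply, bv, Pi.single_apply, smul_eq_mul, idx_code ⟨j, hj⟩ i]
  by_cases hi : i = c
  · subst hi
    simp only [hc, true_and, decide_eq_true_eq, if_true, mul_one]
    rw [Finset.sum_eq_single (⟨j % 3, Nat.mod_lt _ (by norm_num)⟩ : Fin 3)
      (fun k _ hk => if_neg fun e => hk (Fin.ext e)) (by simp)]
    simp
  · have : idx i ≠ j / 3 := fun e => hi (idx_inj _ _ (e.trans hc.symm))
    simp [hi, this]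

theorem tb_ok : ∀ r : Fin 24, ((rtD.tb r.val).2.2 = 1 ∨ (rtD.tb r.val).2.2 = -1) ∧
    fdD.q (rtD.tb r.val).1 = 0 ∧ fdD.q (rtD.tb r.val).2.1 = 0 ∧
    fdD.G (rtD.tb r.val).1 (rtD.tb r.val).2.1 = 0 := by decide +kernel

theorem swap_idx : ∀ c a : I8, (idx c = idx (Sum.swap a)) ↔ Sum.swap c = a := by decide

/-- The action of a root element in characteristic two. -/
theorem Gen.rho_apply (h : Gen α) {r : ℕ} (hr : r < 24) (t : K) (x : I8 → K) :
    isoApply (rho rtD Q8 r t) x = x +
      (t * x (Sum.swap (rtD.tb r).1)) • bv K (rtD.tb r).2.1 +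
      (t * x (Sum.swap (rtD.tb r).2.1)) • bv K (rtD.tb r).1 := by
  have := h.char
  obtain ⟨hs, h1, hb, h2⟩ := tb_ok ⟨r, hr⟩
  simp only at hs h1 hb h2
  have hz : (((rtD.tb r).2.2 : ℤ) : K) = 1 := by
    rcases hs with e | e <;> simp [e, CharTwo.neg_eq]
  have hsw : ∀ i : I8, QuadraticMap.polar Q8 x (bv K i) = x (Sum.swap i) := fun i => by
    rw [polar_coord' real_D split_D _ rfl]
  have hQ := (real_D (F := K)).quad
  rw [rho, hz, one_mul, ei_apply _ (by rw [hQ, h1, Int.cast_zero])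
    (by rw [QuadraticMap.polar_smul_right, (real_D (F := K)).polar, h2, Int.cast_zero, smul_zero]),
    QuadraticMap.polar_smul_right, quad_smul, hQ, hb, Int.cast_zero, hsw, hsw, CharTwo.sub_eq_add]
  funext i
  simp [mul_comm]
  ring

theorem Gen.enc_rho (h : Gen α) {r : ℕ} (hr : r < 24) (e : ℕ) :
    Enc α ((rho rtD Q8 r (α ^ e) : GL I8 K) : Matrix I8 I8 K) (rootC r (e % 7)) := by
  have := h.char
  refine ⟨by simp [rootC], fun j hj => ?_⟩
  have hg : (rootC r (e % 7)).getD j 0 = (2 ^ j) ^^^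
      (if j / 3 = idx (Sum.swap (rtD.tb r).2.1) then pw (e % 7 + j % 3) <<< (3 * idx (rtD.tb r).1) else 0) ^^^
      (if j / 3 = idx (Sum.swap (rtD.tb r).1) then pw (e % 7 + j % 3) <<< (3 * idx (rtD.tb r).2.1) else 0) := by
    rw [rootC, List.getD_eq_getElem _ _ (by simpa using hj), List.getElem_map, List.getElem_range]
  obtain ⟨c, hc⟩ := idx_surj ⟨j / 3, by omega⟩
  simp only at hc
  refine ⟨?_, ?_⟩
  · have := List.all_eq_true.1 (rootC_lt ⟨r, hr⟩ ⟨e % 7, Nat.mod_lt _ (by norm_num)⟩)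
      ((rootC r (e % 7)).getD j 0) (by
        rw [List.getD_eq_getElem _ _ (by simp [rootC, hj])]
        exact List.getElem_mem _)
    simpa using this
  have he : α ^ (e % 7) = α ^ e := by
    conv_rhs => rw [← Nat.mod_add_div e 7, pow_add, pow_mul, h.alpha_seven, one_pow, mul_one]
  show isoApply (rho rtD Q8 r (α ^ e)) (dec α (2 ^ j)) = _
  rw [hg, h.dec_xor, h.dec_xor, h.rho_apply hr, h.dec_two_pow hj hc, add_assoc, add_assoc,
    add_comm ((α ^ e * _) • bv K (rtD.tb r).2.1)]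
  congr 2
  · rw [← hc]
    by_cases hh : Sum.swap c = (rtD.tb r).2.1
    · rw [if_pos ((swap_idx _ _).2 hh), h.dec_shift (pw_lt _), h.sc_pw, pow_add, he]
      have : Sum.swap (rtD.tb r).2.1 = c := by rw [← hh, Sum.swap_swap]
      simp [bv, this]
    · rw [if_neg fun e' => hh ((swap_idx _ _).1 e'), dec_zero]
      have : Sum.swap (rtD.tb r).2.1 ≠ c := fun e' => hh (by rw [← e', Sum.swap_swap])
      simp [bv, this]
  · rw [← hc]
    by_cases hh : Sum.swap c = (rtD.tb r).1
    · rw [if_pos ((swap_idx _ _).2 hh), h.dec_shift (pw_lt _), h.sc_pw, pow_add, he]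
      have : Sum.swap (rtD.tb r).1 = c := by rw [← hh, Sum.swap_swap]
      simp [bv, this]
    · rw [if_neg fun e' => hh ((swap_idx _ _).1 e'), dec_zero]
      have : Sum.swap (rtD.tb r).1 ≠ c := fun e' => hh (by rw [← e', Sum.swap_swap])
      simp [bv, this]

end CfsgLib.Spectrum.D4Two
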